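import Cfsg.Agent.Lib.CosetEnum.Use
import Cfsg.Agent.Lib.ThMult.DataW

/-!
Kernel checks of coset enumeration data.
-/

set_option autoImplicit false

namespace CfsgLib.ThMult
open CfsgLib.CosetEnum

theorem certW_complete : certW.Complete :=
  Cert.complete_of _ 11 7 (by decide +kernel) (by decide +kernel) (by decide +kernel)
    (by decide +kernel) (by decide +kernel)

end CfsgLib.ThMult
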