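import Cfsg.Agent.Lib.ThMult.Words
import Cfsg.Agent.Lib.ThPres.CentA

/-!
Consequences of the normalised relators among the lifts.
-/

set_option autoImplicit false
set_option linter.style.haveILetI false

namespace CfsgLib.ThMult

open Cfsg.Spor CfsgLib.CosetEnum CfsgLib.ThPres

attribute [local irreducible] certS certR certV relsTh

variable {Δ : Type} [Group Δ] {τ : Δ →* Th} {ℓ : ℕ} {L : ℕ → Δ}

/-- the normalisation of the lifts -/
structure Pre (τ : Δ →* Th) (L : ℕ → Δ) : Prop extends Lifts τ L where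
  sq : ∀ g < 5, L g * L g = 1
  cd4 : prodW L wCD = 1
  ab3 : prodW L wAB = 1
  bc3 : prodW L wBC = 1
  de3 : prodW L wDE = 1
  es : prodW L wES = 1
  sts : prodW L wTS = 1
  utut : prodW L wUT = prodW L wT3
  u4 : prodW L wU4 = 1

theorem rel_tau {L : ℕ → Δ} (l : Lifts τ L) {w : List ℕ} (h : w ∈ relsTh) : τ (prodW L w) = 1 := by
  rw [l.word, relTh_one w h]

theorem mem_th {w : List ℕ} (h : w ∈ pWords ++ rCen ++ [wUX 0, wUX 2, wUX 4, wUT, wUY, wZ1]) :
    w ∈ relsTh := by
  have h0 := rels_th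
  simp only [List.all_eq_true, List.contains_iff_mem] at h0
  exact h0 w h

/-- the cube trick -/
theorem Ext.conj_pow (e : Ext τ ℓ) {x g z : Δ} (hz : τ z = 1) (h : g⁻¹ * x * g = x * z) :
    ∀ n : ℕ, (g ^ n)⁻¹ * x * g ^ n = x * z ^ n
  | 0 => by simp
  | n + 1 => by
    have ih := e.conj_pow hz h n
    have hc : Commute (z ^ n) g := (e.commute_of_tau hz g).pow_left n
    rw [pow_succ g n, mul_inv_rev,
      show g⁻¹ * (g ^ n)⁻¹ * x * (g ^ n * g) = g⁻¹ * ((g ^ n)⁻¹ * x * g ^ n) * g by group, ih,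
      show g⁻¹ * (x * z ^ n) * g = g⁻¹ * x * (z ^ n * g) by group, hc.eq, ← mul_assoc, h, mul_assoc,
      pow_succ']

theorem Ext.commutes (e : Ext τ ℓ) {x g z : Δ} (hx : x * x = 1) (hz : τ z = 1)
    (h : g⁻¹ * x * g = x * z) {n : ℕ} (hn : Nat.Coprime 2 n) (hg : Commute (g ^ n) x) : z = 1 := by
  have h1 := e.conj_pow hz h n
  rw [mul_assoc, ← hg.eq, inv_mul_cancel_left] at h1
  exact eq_one_two_three (e.conj_sq hx hz h) hn (left_eq_mul.mp h1)

namespace Pre

variable (p : Pre τ L)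
include p

theorem l5 : L 6 = (L 5)⁻¹ := p.toLifts.inv_eq 5
theorem l7 : L 8 = (L 7)⁻¹ := p.toLifts.inv_eq 7
theorem l9 : L 10 = (L 9)⁻¹ := p.toLifts.inv_eq 9

theorem sq_inv {g : ℕ} (h : g < 5) : (L g)⁻¹ = L g := inv_eq_of_mul_eq_one_right (p.sq g h)

theorem a_eq : L 0 = (L 2 * L 3) ^ 4 := by
  have h : L 0 * (L 3 * L 2) ^ 4 = 1 := by
    rw [← p.cd4]; simp only [wCD, prodW_cons, prodW_nil, mul_one, pow_succ, pow_zero, one_mul, mul_assoc]
  rw [eq_inv_of_mul_eq_one_left h, ← inv_pow, mul_inv_rev, p.sq_inv (by norm_num), p.sq_inv (by norm_num)]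

theorem comm_ac : Commute (L 0) (L 2) := by
  have h : MulAut.conj (L 2) (L 0) = L 0 := by
    conv_lhs => rw [p.a_eq, map_pow]
    rw [MulAut.conj_apply, p.sq_inv (by norm_num), ← mul_assoc, p.sq 2 (by norm_num), one_mul]
    conv_rhs => rw [← p.sq_inv (show (0 : ℕ) < 5 by norm_num), p.a_eq, ← inv_pow, mul_inv_rev,
      p.sq_inv (by norm_num), p.sq_inv (by norm_num)]
  rw [MulAut.conj_apply, mul_inv_eq_iff_eq_mul] at h
  exact h.symm

theorem sts' : (L 7)⁻¹ * L 5 * L 7 = L 5 * L 5 := by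
  have h := p.sts
  simp only [wTS, prodW_cons, prodW_nil, mul_one, p.l5, p.l7] at h
  calc (L 7)⁻¹ * L 5 * L 7 = ((L 7)⁻¹ * (L 5 * (L 7 * ((L 5)⁻¹ * (L 5)⁻¹)))) * (L 5 * L 5) := by group
    _ = L 5 * L 5 := by rw [h, one_mul]

theorem s7 (e : Ext τ ℓ) : L 5 ^ 7 = 1 := by
  have hk : τ (L 5 ^ 7) = 1 := by
    have := rel_tau p.toLifts (mem_th (w := wS7) (by simp [pWords]))
    simpa [wS7, pow_succ, mul_assoc] using this
  have h : MulAut.conj (L 7)⁻¹ (L 5 ^ 7) = L 5 ^ 7 * L 5 ^ 7 := by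
    rw [map_pow, MulAut.conj_apply, inv_inv, p.sts', (Commute.refl (L 5)).mul_pow]
  rw [MulAut.conj_apply, e.comm hk, mul_inv_cancel_right] at h
  exact left_eq_mul.mp h

theorem t3 (e : Ext τ ℓ) : L 7 ^ 3 = 1 ∧ (L 9)⁻¹ * L 7 * L 9 * L 7 = 1 := by
  have h0 : prodW L wT3 = L 7 ^ 3 := by simp [wT3, pow_succ, mul_assoc]
  have hu : (L 9)⁻¹ * L 7 * L 9 * L 7 = L 7 ^ 3 := by
    rw [← h0, ← p.utut]
    simp [wUT, p.l9, mul_assoc]
  have hk : τ (L 7 ^ 3) = 1 := by rw [← h0]; exact rel_tau p.toLifts (mem_th (by simp [pWords]))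
  set z := L 7 ^ 3 with hz
  have hcj : MulAut.conj (L 9)⁻¹ (L 7) = z * (L 7)⁻¹ := by
    rw [MulAut.conj_apply, inv_inv, eq_mul_inv_iff_mul_eq, hu]
  have h1 : MulAut.conj (L 9)⁻¹ z = z ^ 2 := by
    conv_lhs => rw [hz, map_pow, hcj]
    rw [(e.commute_of_tau hk _).mul_pow, inv_pow, ← hz, pow_succ z 2, mul_inv_cancel_right]
  rw [MulAut.conj_apply, e.comm hk, mul_inv_cancel_right, pow_two] at h1
  have hz1 : z = 1 := left_eq_mul.mp h1
  exact ⟨hz1, hu.trans hz1⟩

/-- a letter commuting with one of odd order -/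
theorem fixed_by {g j n : ℕ} (hg : g < 5) (e : Ext τ ℓ) (hw : τ (prodW L [inv11 j, g, j, g]) = 1)
    (hn : Nat.Coprime 2 n) (hj : Commute (L j ^ n) (L g)) : prodW L [inv11 j, g, j, g] = 1 := by
  set z := prodW L [inv11 j, g, j, g] with hz
  have h : (L j)⁻¹ * L g * L j = L g * z := by
    rw [e.comm hw (L g), hz]
    simp only [prodW_cons, prodW_nil, mul_one, p.toLifts.inv_eq, mul_assoc, p.sq g hg]
  exact e.commutes (p.sq g hg) hw h hn hj

theorem fixed_eq {g j : ℕ} (hg : g < 5) (h : prodW L [inv11 j, g, j, g] = 1) :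
    Commute (L j) (L g) := by
  simp only [prodW_cons, prodW_nil, mul_one, p.toLifts.inv_eq] at h
  have h' : (L j)⁻¹ * L g * L j = L g := by
    calc (L j)⁻¹ * L g * L j = (L j)⁻¹ * (L g * (L j * L g)) * (L g)⁻¹ := by group
      _ = L g := by rw [h, one_mul, p.sq_inv hg]
  calc L j * L g = L j * ((L j)⁻¹ * L g * L j) := by rw [h']
    _ = L g * L j := by group

theorem tx (e : Ext τ ℓ) {g : ℕ} (hg : g < 5) : prodW L (wTX g) = 1 :=
  p.fixed_by (j := 7) hg e (rel_tau p.toLifts (mem_th (by interval_cases g <;> simp [pWords, wTX, inv11])))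
    (n := 3) (by decide) (by rw [(p.t3 e).1]; exact Commute.one_left _)

theorem sx (e : Ext τ ℓ) {g : ℕ} (hg : g < 3) : prodW L (wSX g) = 1 :=
  p.fixed_by (j := 5) (by omega) e
    (rel_tau p.toLifts (mem_th (by interval_cases g <;> simp [pWords, wSX, inv11])))
    (n := 7) (by decide) (by rw [p.s7 e]; exact Commute.one_left _)

theorem sd (e : Ext τ ℓ) : prodW L wSD = 1 := by
  set z := prodW L wSD with hz
  have hk : τ z = 1 := rel_tau p.toLifts (mem_th (by simp [pWords]))
  have hc : ∀ y, y * z = z * y := e.comm hk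
  have h1 : MulAut.conj (L 3) (L 5) = (L 5)⁻¹ * z := by
    rw [MulAut.conj_apply, p.sq_inv (by norm_num), hz]
    simp [wSD, mul_assoc]
  have hT : Commute (L 7) (L 3) := p.fixed_eq (j := 7) (by norm_num) (p.tx e (by norm_num))
  have h2 : MulAut.conj (L 7)⁻¹ (MulAut.conj (L 3) (L 5)) = MulAut.conj (L 3) (L 5 * L 5) := by
    rw [← p.sts', MulAut.conj_apply, MulAut.conj_apply, MulAut.conj_apply, inv_inv,
      show (L 7)⁻¹ * (L 3 * L 5 * (L 3)⁻¹) * L 7 = ((L 7)⁻¹ * L 3) * L 5 * ((L 3)⁻¹ * L 7) by group,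
      hT.inv_left.eq, ← hT.inv_right.eq]
    group
  have h3 : MulAut.conj (L 7)⁻¹ z = z := by
    rw [MulAut.conj_apply, hc, mul_inv_cancel_right]
  rw [map_mul, h1, map_mul, h3, map_inv, MulAut.conj_apply, inv_inv, p.sts', mul_inv_rev] at h2
  rw [show (L 5)⁻¹ * z * ((L 5)⁻¹ * z) = (L 5)⁻¹ * (L 5)⁻¹ * (z * z) by
    rw [mul_assoc (L 5)⁻¹ z, ← mul_assoc z, ← hc]; group] at h2
  exact left_eq_mul.mp (mul_left_cancel h2)

theorem ux (e : Ext τ ℓ) {g : ℕ} (hg : g = 0 ∨ g = 2) : prodW L (wUX g) = 1 := by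
  have hg5 : g < 5 := by omega
  set z := prodW L (wUX g) with hz
  have hk : τ z = 1 := rel_tau p.toLifts (mem_th (by rcases hg with rfl | rfl <;> simp))
  have hS : Commute (L 5) (L g) := p.fixed_eq hg5 (p.sx e (g := g) (by omega))
  have h : (L 9 * L 5)⁻¹ * L g * (L 9 * L 5) = L g * z := by
    have h9 : (L 9)⁻¹ * L g * L 9 = L g * z := by
      rw [e.comm hk (L g), hz]
      simp only [wUX, prodW_cons, prodW_nil, mul_one, p.l9, mul_assoc, p.sq g hg5]
    rw [mul_inv_rev, show (L 5)⁻¹ * (L 9)⁻¹ * L g * (L 9 * L 5) =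
      (L 5)⁻¹ * ((L 9)⁻¹ * L g * L 9) * L 5 by group, h9, mul_assoc, mul_assoc, ← e.comm hk (L 5),
      ← mul_assoc (L g), ← hS.eq, ← mul_assoc, inv_mul_cancel_left]
  obtain ⟨k, -, hx, hck⟩ := e.exists_eq (x := (L 9 * L 5) ^ 3) (y := L 0 * L 2) (by
    have hw := relTh_one wZ2 (mem_th (by simp [rCen]))
    simp only [wZ2, prodW_cons, prodW_nil, mul_one] at hw
    have h5 : tg 6 = (tg 5)⁻¹ := eq_inv_of_mul_eq_one_right (tg_inv 5)
    have h10 : tg 10 = (tg 9)⁻¹ := eq_inv_of_mul_eq_one_right (tg_inv 9)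
    rw [h5, h10] at hw
    simp only [map_pow, map_mul, p.toLifts.val]
    refine (mul_inv_eq_one.mp (Eq.trans ?_ hw)).symm
    simp only [pow_succ, pow_zero, one_mul, mul_inv_rev, mul_assoc])
  refine e.commutes (p.sq g hg5) hk h (n := 3) (by decide) ?_
  rw [hx]
  refine Commute.mul_left ?_ (hck _)
  rcases hg with rfl | rfl
  · exact (Commute.refl _).mul_left p.comm_ac.symm
  · exact p.comm_ac.mul_left (Commute.refl _)

theorem ac_sq : (L 0 * L 2) * (L 0 * L 2) = 1 := by
  rw [mul_assoc, ← mul_assoc (L 2), ← p.comm_ac.eq, mul_assoc (L 0) (L 2) (L 2), p.sq 2 (by norm_num),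
    mul_one, p.sq 0 (by norm_num)]

end Pre

/-- the group generated by the lifts of a and b meets the kernel trivially -/
theorem two_trivial (p : Pre τ L) {x : Δ}
    (hx : x ∈ Subgroup.closure ({L 0, L 1} : Set Δ)) (h1 : τ x = 1) : x = 1 := by
  have ha := p.sq 0 (by norm_num)
  have hb := p.sq 1 (by norm_num)
  have hab : L 1 * L 0 * L 1 = L 0 * L 1 * L 0 := by
    have h := p.ab3
    simp only [wAB, prodW_cons, prodW_nil, mul_one] at h
    calc L 1 * L 0 * L 1 = (L 0)⁻¹ * (L 0 * (L 1 * (L 0 * (L 1 * (L 0 * L 1))))) * (L 1)⁻¹ * (L 0)⁻¹ := by group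
      _ = _ := by rw [h, p.sq_inv (by norm_num), p.sq_inv (by norm_num), mul_one]
  set S : List (List ℕ) := [[], [0], [1], [0, 1], [1, 0], [0, 1, 0]] with hS
  have hstep : ∀ w ∈ S, ∀ g ∈ [0, 1], ∃ v ∈ S, prodW L w * L g = prodW L v := by
    have caa : ∀ x, x * L 0 * L 0 = x := fun x => by rw [mul_assoc, ha, mul_one]
    have cbb : ∀ x, x * L 1 * L 1 = x := fun x => by rw [mul_assoc, hb, mul_one]
    intro w hw g hg
    simp only [hS, List.mem_cons, List.not_mem_nil, or_false] at hw hg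
    simp only [hS, List.mem_cons, List.not_mem_nil, or_false, exists_eq_or_imp, exists_eq_left,
      prodW_cons, prodW_nil, mul_one]
    rcases hw with rfl | rfl | rfl | rfl | rfl | rfl <;> rcases hg with rfl | rfl <;>
      simp only [prodW_cons, prodW_nil, mul_one, one_mul]
    · exact Or.inr (Or.inl trivial)
    · exact Or.inr (Or.inr (Or.inl trivial))
    · exact Or.inl ha
    · exact Or.inr (Or.inr (Or.inr (Or.inl trivial)))
    · exact Or.inr (Or.inr (Or.inr (Or.inr (Or.inl trivial))))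
    · exact Or.inl hb
    · exact Or.inr (Or.inr (Or.inr (Or.inr (Or.inr (mul_assoc _ _ _)))))
    · exact Or.inr (Or.inl (cbb _))
    · exact Or.inr (Or.inr (Or.inl (caa _)))
    · exact Or.inr (Or.inr (Or.inr (Or.inr (Or.inr (by rw [hab, mul_assoc])))))
    · exact Or.inr (Or.inr (Or.inr (Or.inl (by rw [← mul_assoc, caa]))))
    · exact Or.inr (Or.inr (Or.inr (Or.inr (Or.inl (by rw [← mul_assoc, ← hab, cbb])))))
  obtain ⟨w, hw, rfl⟩ : ∃ w ∈ S, prodW L w = x := by
    clear h1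
    induction hx using Subgroup.closure_induction_right with
    | one => exact ⟨[], by simp [hS], by simp⟩
    | mul_right x hx y hy ih =>
      obtain ⟨w, hw, rfl⟩ := ih
      rcases hy with rfl | rfl
      · obtain ⟨v, hv, e⟩ := hstep w hw 0 (by simp); exact ⟨v, hv, e.symm⟩
      · obtain ⟨v, hv, e⟩ := hstep w hw 1 (by simp); exact ⟨v, hv, e.symm⟩
    | mul_inv_cancel x hx y hy ih =>
      obtain ⟨w, hw, rfl⟩ := ih
      rcases hy with rfl | rfl
      · obtain ⟨v, hv, e⟩ := hstep w hw 0 (by simp)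
        exact ⟨v, hv, by rw [p.sq_inv (by norm_num)]; exact e.symm⟩
      · obtain ⟨v, hv, e⟩ := hstep w hw 1 (by simp)
        exact ⟨v, hv, by rw [p.sq_inv (by norm_num)]; exact e.symm⟩
  by_contra hne
  have hw9 : ∀ g ∈ w, g < 9 := by
    simp only [hS, List.mem_cons, List.not_mem_nil, or_false] at hw
    rcases hw with rfl | rfl | rfl | rfl | rfl | rfl <;> simp
  rw [p.toLifts.word, ← toP_word hw9, ← map_one toP] at h1
  have hk := toP_injective h1
  have hw0 : w ≠ [] := fun e => hne (by rw [e, prodW_nil])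
  have hkey : ([[0], [1], [0, 1], [1, 0], [0, 1, 0]] : List (List ℕ)).all
      (fun v => !(Nat.beq (keyRun v) (keyRun []))) = true := by decide +kernel
  have hr : keyRun w = keyRun [] := by
    have hrun : ∀ b < certL.N, certL.run b w = certL.run b [] := fun b hb => by
      have e1 := pAct.apply w (hK9.symm ▸ hw9) ⟨b, hb⟩
      have e2 := pAct.apply [] (by simp) ⟨b, hb⟩
      rw [hk] at e1
      rw [prodW_nil] at e2
      exact e1.symm.trans e2
    exact keyRun_congr (hrun 0 (by rw [hN]; norm_num)) (hrun 4 (by rw [hN]; norm_num))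
      (hrun 77 (by rw [hN]; norm_num))
  simp only [List.all_eq_true, Bool.not_eq_true'] at hkey
  have := hkey w (by
    simp only [hS, List.mem_cons, List.not_mem_nil, or_false] at hw ⊢
    rcases hw with h | h | h | h | h | h <;> simp [h] at hw0 ⊢)
  rw [hr] at this
  simp at this

theorem gWords_one (p : Pre τ L) (e : Ext τ ℓ) : ∀ w ∈ gWords, prodW L w = 1 := by
  obtain ⟨hK, hsubs, -⟩ := subsS
  set H : Subgroup Δ := Subgroup.closure {L 0, L 1} with hH
  have m : Model certS H (certGen certS [0, 1, 2, 3, 4] L) := by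
    refine liftModel e p.toLifts liftS ?_ (fun w hw => relTh_one w (mem_th ?_)) (fun w hw => ?_)
    · intro w hw
      simp only [List.mem_cons, List.not_mem_nil, or_false] at hw
      rcases hw with rfl | rfl | rfl | rfl
      exacts [p.ab3, p.bc3, p.cd4, p.de3]
    · refine List.mem_append_left _ (List.mem_append_left _ (List.mem_append_left _ ?_))
      simp only [List.mem_cons, List.not_mem_nil, or_false] at hw
      rcases hw with rfl | rfl | rfl | rfl | rfl <;> simp [gWords]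
    · rw [hsubs] at hw
      simp only [List.mem_cons, List.not_mem_nil, or_false] at hw
      rcases hw with rfl | rfl <;> rw [prodW_cons, prodW_nil, mul_one, certGen, if_pos (by rw [hK]; norm_num)]
      exacts [Subgroup.subset_closure (Set.mem_insert _ _),
        Subgroup.subset_closure (Set.mem_insert_of_mem _ rfl)]
  have hb := backS
  simp only [List.all_eq_true] at hb
  intro w hw
  simp only [gWords, List.mem_cons, List.not_mem_nil, or_false] at hw
  rcases hw with rfl | rfl | rfl | rfl | rfl | rfl | rfl | rfl | rfl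
  exacts [p.ab3, two_trivial p (back_mem certS_complete m (hb _ (by simp))) (rel_tau p.toLifts (mem_th (by simp [pWords, gWords]))),
    p.bc3,
    two_trivial p (back_mem certS_complete m (hb _ (by simp))) (rel_tau p.toLifts (mem_th (by simp [pWords, gWords]))),
    two_trivial p (back_mem certS_complete m (hb _ (by simp))) (rel_tau p.toLifts (mem_th (by simp [pWords, gWords]))),
    p.cd4,
    two_trivial p (back_mem certS_complete m (hb _ (by simp))) (rel_tau p.toLifts (mem_th (by simp [pWords, gWords]))),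
    p.de3,
    two_trivial p (back_mem certS_complete m (hb _ (by simp))) (rel_tau p.toLifts (mem_th (by simp [pWords, gWords])))]

theorem pWords_one (p : Pre τ L) (e : Ext τ ℓ) : ∀ w ∈ pWords, prodW L w = 1 := by
  intro w hw
  rcases List.mem_append.1 hw with hw | hw
  · exact gWords_one p e w hw
  simp only [List.mem_cons, List.not_mem_nil, or_false] at hw
  rcases hw with rfl | rfl | rfl | rfl | rfl | rfl | rfl | rfl | rfl | rfl | rfl | rfl | rfl
  exacts [by simpa [wS7, pow_succ, mul_assoc] using p.s7 e, p.sx e (by norm_num), p.sx e (by norm_num),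
    p.sx e (by norm_num), p.sd e, p.es, by simpa [wT3, pow_succ, mul_assoc] using (p.t3 e).1,
    p.tx e (by norm_num), p.tx e (by norm_num), p.tx e (by norm_num), p.tx e (by norm_num),
    p.tx e (by norm_num), p.sts]

end CfsgLib.ThMult
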