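import Cfsg.Agent.Lib.ThPres.Words

/-!
Central extensions of the Thompson group: elementary facts about lifts of relators.
-/

set_option autoImplicit false

namespace CfsgLib.ThMult

open Cfsg.Spor CfsgLib.CosetEnum CfsgLib.ThPres

variable {Δ : Type} [Group Δ]

/-- a surjection with central kernel of prime exponent -/
structure Ext (τ : Δ →* Th) (ℓ : ℕ) : Prop where
  surj : Function.Surjective τ
  comm : ∀ {k : Δ}, τ k = 1 → ∀ y, y * k = k * y
  prime : ℓ.Prime
  exp : ∀ {k : Δ}, τ k = 1 → k ^ ℓ = 1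

/-- lifts of the eleven letters -/
structure Lifts (τ : Δ →* Th) (L : ℕ → Δ) : Prop where
  val : ∀ g, τ (L g) = tg g
  inv : ∀ g, L g * L (inv11 g) = 1

/-- the eleven lifts from eight -/
def letters (A B C D E S T U : Δ) (g : ℕ) : Δ :=
  [A, B, C, D, E, S, S⁻¹, T, T⁻¹, U, U⁻¹].getD g 1

section

variable {τ : Δ →* Th} {ℓ : ℕ}

theorem eq_one_two_three {z : Δ} (h2 : z ^ 2 = 1) {n : ℕ} (hn : Nat.Coprime 2 n) (h : z ^ n = 1) :
    z = 1 := by
  have h1 := pow_gcd_eq_one.2 ⟨h2, h⟩
  rwa [Nat.Coprime.gcd_eq_one hn, pow_one] at h1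

theorem Ext.odd_sq (e : Ext τ ℓ) (hℓ : ℓ ≠ 2) {z : Δ} (hz : τ z = 1) (h2 : z ^ 2 = 1) : z = 1 :=
  eq_one_two_three h2 ((Nat.coprime_primes Nat.prime_two e.prime).2 (Ne.symm hℓ)) (e.exp hz)

/-- conjugation of a lift of an involution -/
theorem Ext.conj_sq (e : Ext τ ℓ) {x g z : Δ} (hx : x * x = 1) (hz : τ z = 1)
    (h : g⁻¹ * x * g = x * z) : z ^ 2 = 1 := by
  have h1 : (g⁻¹ * x * g) * (g⁻¹ * x * g) = 1 := by
    rw [show (g⁻¹ * x * g) * (g⁻¹ * x * g) = g⁻¹ * (x * x) * g by group, hx]; group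
  rw [h] at h1
  calc z ^ 2 = x * x * (z * z) := by rw [hx, one_mul, pow_two]
    _ = x * (x * z) * z := by simp only [mul_assoc]
    _ = x * (z * x) * z := by rw [e.comm hz x]
    _ = x * z * (x * z) := by simp only [mul_assoc]
    _ = 1 := h1

/-- two elements squaring to one with product in the kernel -/
theorem Ext.pair_sq (e : Ext τ ℓ) {P Q : Δ} (hP : P * P = 1) (hQ : Q * Q = 1) (hz : τ (P * Q) = 1) :
    (P * Q) ^ 2 = 1 := by
  have h := e.comm hz P
  rw [← mul_assoc, hP, one_mul] at h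
  calc (P * Q) ^ 2 = P * Q * P * Q := by rw [pow_two, mul_assoc (P * Q) P Q]
    _ = Q * Q := by rw [← h]
    _ = 1 := hQ

/-- a power of a product of two lifts of involutions -/
theorem Ext.dihedral (e : Ext τ ℓ) {P Q : Δ} (hP : P * P = 1) (hQ : Q * Q = 1) {n : ℕ}
    (hz : τ ((P * Q) ^ n) = 1) : ((P * Q) ^ n) ^ 2 = 1 := by
  have hPi : P⁻¹ = P := inv_eq_of_mul_eq_one_right hP
  have hQi : Q⁻¹ = Q := inv_eq_of_mul_eq_one_right hQ
  have h1 : MulAut.conj P (P * Q) = (P * Q)⁻¹ := by
    rw [MulAut.conj_apply, mul_inv_rev, hPi, hQi, ← mul_assoc P P Q, hP, one_mul]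
  have h2 : MulAut.conj P ((P * Q) ^ n) = ((P * Q) ^ n)⁻¹ := by rw [map_pow, h1, inv_pow]
  rw [MulAut.conj_apply, e.comm hz P, mul_inv_cancel_right] at h2
  rw [pow_two]
  nth_rw 2 [h2]
  exact mul_inv_cancel _

/-- three lifts of involutions with product in the kernel -/
theorem Ext.triple (e : Ext τ ℓ) (hℓ : ℓ ≠ 2) {P X Y : Δ} (hP : P * P = 1) (hX : X * X = 1)
    (hY : Y * Y = 1) (hPX : τ ((P * X) ^ 2) = 1) (hz : τ (P * X * Y) = 1) : P * X * Y = 1 := by
  have hsq : (P * X) ^ 2 = 1 := e.odd_sq hℓ hPX (e.dihedral hP hX hPX)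
  exact e.odd_sq hℓ hz (e.pair_sq (by rw [← pow_two, hsq]) hY hz)

/-- lifts of a relation that conjugates an element to a power -/
theorem Ext.commute_of_tau (e : Ext τ ℓ) {k : Δ} (hk : τ k = 1) (y : Δ) : Commute k y := (e.comm hk y).symm

theorem Ext.exists_eq (e : Ext τ ℓ) {x y : Δ} (h : τ x = τ y) :
    ∃ k, τ k = 1 ∧ x = y * k ∧ ∀ w, Commute k w :=
  ⟨y⁻¹ * x, by rw [map_mul, map_inv, h, inv_mul_cancel], (mul_inv_cancel_left y x).symm,
    fun w => e.commute_of_tau (by rw [map_mul, map_inv, h, inv_mul_cancel]) w⟩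

end

section

variable {τ : Δ →* Th} {L : ℕ → Δ}

theorem Lifts.word (l : Lifts τ L) (w : List ℕ) : τ (prodW L w) = prodW tg w := by
  rw [map_prodW]
  exact prodW_congr fun g _ => l.val g

theorem Lifts.canon_eq (l : Lifts τ L) : ∀ w : List ℕ, prodW L (canon w) = prodW L w
  | [] => rfl
  | g :: w => by
    have ih := l.canon_eq w
    rw [canon]
    cases hc : canon w with
    | nil => rw [hc, prodW_nil] at ih; rw [prodW_cons, prodW_cons, ← ih, prodW_nil]
    | cons k r =>
      rw [hc, prodW_cons] at ih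
      simp only
      split
      · rename_i hk
        rw [prodW_cons, ← ih, Nat.eq_of_beq_eq_true hk, ← mul_assoc, l.inv, one_mul]
      · rw [prodW_cons, prodW_cons, prodW_cons, ← ih]

theorem Lifts.inv_eq (l : Lifts τ L) (g : ℕ) : L (inv11 g) = (L g)⁻¹ :=
  eq_inv_of_mul_eq_one_right (l.inv g)

theorem Lifts.rev_eq (l : Lifts τ L) : ∀ w : List ℕ, prodW L (w.map inv11).reverse = (prodW L w)⁻¹
  | [] => by simp
  | g :: w => by
    rw [List.map_cons, List.reverse_cons, prodW_append, l.rev_eq w, prodW_cons, prodW_cons, prodW_nil, mul_one,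
      mul_inv_rev, l.inv_eq]

end

/-- the commutator of a letter with a word -/
def commWord (g : ℕ) (z : List ℕ) : List ℕ := canon (inv11 g :: ((z.map inv11).reverse ++ g :: z))

/-- a certificate speaks about lifts of a list of relators and of central words -/
def liftOK (C : Cert) (lm : List ℕ) (known cen : List (List ℕ)) : Bool :=
  Nat.beq C.invs.length C.K &&
    ((List.range C.K).all fun g => Nat.blt (C.inv g) C.K &&
      Nat.beq (lm.getD (C.inv g) 11) (inv11 (lm.getD g 11))) &&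
    C.rels.all fun r => (r.all fun g => Nat.blt g C.K) &&
      (known.contains (r.map fun g => lm.getD g 11) ||
        cen.any fun z => (List.range 11).any fun g => (r.map fun g => lm.getD g 11) == commWord g z)

/-- a word through the table returns to the start -/
noncomputable def backOK (C : Cert) (lm : List ℕ) (w : List ℕ) : Bool :=
  let v := w.map fun c => ((List.range C.K).find? fun g => Nat.beq (lm.getD g 11) c).getD C.K
  (v.all fun g => Nat.blt g C.K) && Nat.beq (C.run 0 v) 0 &&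
    (v.map fun g => lm.getD g 11) == w

/-- the letters of a certificate -/
def certGen (C : Cert) (lm : List ℕ) (L : ℕ → Δ) (g : ℕ) : Δ := if g < C.K then L (lm.getD g 11) else 1

theorem certGen_word {C : Cert} {lm : List ℕ} (L : ℕ → Δ) {r : List ℕ} (hr : ∀ g ∈ r, g < C.K) :
    prodW (certGen C lm L) r = prodW L (r.map fun g => lm.getD g 11) := by
  rw [prodW, prodW, List.map_map]
  exact congrArg List.prod (List.map_congr_left fun g hg => if_pos (hr g hg))

variable {τ : Δ →* Th} {ℓ : ℕ} {L : ℕ → Δ}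

theorem liftModel (e : Ext τ ℓ) (l : Lifts τ L) {C : Cert} {lm : List ℕ} {known cen : List (List ℕ)}
    (hc : liftOK C lm known cen = true) (hk : ∀ w ∈ known, prodW L w = 1)
    (hcen : ∀ w ∈ cen, prodW tg w = 1) {H : Subgroup Δ}
    (hH : ∀ w ∈ C.subs, prodW (certGen C lm L) w ∈ H) : Model C H (certGen C lm L) := by
  simp only [liftOK, Bool.and_eq_true, List.all_eq_true, List.mem_range, Nat.blt_eq, Bool.or_eq_true,
    List.any_eq_true, List.contains_iff_mem, beq_iff_eq] at hc
  obtain ⟨⟨hlen, hinv⟩, hrel⟩ := hc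
  refine ⟨if_neg (lt_irrefl _), fun g => ?_, fun r hr => ?_, hH⟩
  · by_cases hg : g < C.K
    · rw [certGen, certGen, if_pos hg, if_pos (hinv g hg).1, Nat.eq_of_beq_eq_true (hinv g hg).2, l.inv]
    · rw [certGen, certGen, if_neg hg, if_neg, one_mul]
      rw [Cert.inv, List.getD_eq_default _ _ (by rw [Nat.eq_of_beq_eq_true hlen]; omega)]
      exact hg
  · obtain ⟨hl, h⟩ := hrel r hr
    rw [certGen_word L hl]
    rcases h with h | ⟨z, hz, g, -, h⟩
    · exact hk _ h
    · have hkk : τ (prodW L z) = 1 := by rw [l.word, hcen z hz]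
      rw [h, commWord, l.canon_eq, prodW_cons, prodW_append, prodW_cons, l.rev_eq, l.inv_eq,
        e.comm hkk (L g), inv_mul_cancel_left, inv_mul_cancel]

theorem back_mem {C : Cert} {lm : List ℕ} {H : Subgroup Δ} (hc : C.Complete)
    (m : Model C H (certGen C lm L)) {w : List ℕ} (h : backOK C lm w = true) : prodW L w ∈ H := by
  simp only [backOK, Bool.and_eq_true, beq_iff_eq, List.all_eq_true, Nat.blt_eq] at h
  obtain ⟨⟨h1, h2⟩, h3⟩ := h
  rw [← h3, ← certGen_word L h1]
  exact mem_of_run_eq_zero hc m h1 (Nat.eq_of_beq_eq_true h2)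

end CfsgLib.ThMult
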