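import Cfsg.Agent.Lib.ThMult.Words
import Cfsg.Agent.Lib.ThPres.CentQ

/-!
Conjugates of the extraspecial subgroup's generators by the last letter.
-/

set_option autoImplicit false

namespace CfsgLib.ThMult

open Cfsg.Spor CfsgLib.CosetEnum CfsgLib.ThPres CfsgLib.ThRep

attribute [local irreducible] certL qKey qMul qWit qElts

/-- the index of the image of a generator -/
def uIdx (j : ℕ) : ℕ := qConjU.getD j 0

theorem uconj_gen {j : ℕ} (hj : j < 9) : uIdx j < 512 ∧
    (tg 9)⁻¹ * prodW tg (qGens.getD j []) * tg 9 = prodW tg (qElts.getD (uIdx j) []) := by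
  obtain ⟨h9, -, -, -, hgl, h⟩ := q_facts
  have hjl : j < qGens.length := h9.symm ▸ hj
  have hq9 : ∀ c ∈ qGens.getD j [], c < 9 := by
    rw [List.getD_eq_getElem _ _ hjl]; exact hgl _ (List.getElem_mem _)
  have hu : qConjUOK j = true := by
    interval_cases j
    exacts [q_conjU0, q_conjU1, q_conjU2, q_conjU3, q_conjU4, q_conjU5, q_conjU6, q_conjU7, q_conjU8]
  simp only [qConjUOK, Bool.and_eq_true, Nat.blt_eq] at hu
  refine ⟨hu.1, rho_injective0 (Units.ext ?_)⟩
  have hlw : ∀ c ∈ [10] ++ qGens.getD j [] ++ [9], c < 11 := by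
    intro c hc
    simp only [List.mem_append, List.mem_singleton] at hc
    rcases hc with (rfl | hc) | rfl
    · norm_num
    · exact (hq9 c hc).trans (by norm_num)
    · norm_num
  have e1 := (rho_word hlw).2
  have e2 := (rho_word (w := qElts.getD (uIdx j) []) fun c hc => ((h _ hu.1).1 c hc).trans (by norm_num)).2
  unfold uIdx at e2 ⊢
  rw [Nat.eq_of_beq_eq_true hu.2, ← e2, prodW_append, prodW_append, prodW_cons, prodW_nil, mul_one,
    prodW_cons, prodW_nil, mul_one] at e1
  rw [← e1, show tg 10 = (tg 9)⁻¹ from eq_inv_of_mul_eq_one_right (tg_inv 9)]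

theorem qc_eq : tw.eq (wQC.drop 5) (certL.revInv (qElts.getD (uIdx 2) [])) = true := by decide +kernel

theorem qc_tau : prodW tg wQC = 1 := by
  obtain ⟨hk, e⟩ := uconj_gen (j := 2) (by norm_num)
  obtain ⟨-, -, -, -, -, h⟩ := q_facts
  have hl := (h _ hk).1
  have e2 := congrArg toP (eq_sound0 qc_eq)
  rw [pAct.revInv_eq, map_inv, toP_word hl] at e2
  have hlt : (wQC.drop 5).all (fun g => Nat.blt g 9) = true := by decide +kernel
  simp only [List.all_eq_true, Nat.blt_eq] at hlt
  rw [toP_word hlt, ← e] at e2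
  have hs : wQC = [10, 3, 2, 3, 9] ++ wQC.drop 5 := rfl
  rw [hs, prodW_append, e2]
  have h10 : tg 10 = (tg 9)⁻¹ := eq_inv_of_mul_eq_one_right (tg_inv 9)
  have hq : qGens.getD 2 [] = [3, 2, 3] := rfl
  rw [hq]
  simp only [prodW_cons, prodW_nil, mul_one, h10, mul_assoc]
  group

end CfsgLib.ThMult
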