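import Cfsg.Agent.Lib.ThMult.Sigma
import Cfsg.Agent.Lib.ThMult.UConj

/-!
No central extension with a kernel of odd prime order: the relators lift.
-/

set_option autoImplicit false
set_option linter.style.haveILetI false

namespace CfsgLib.ThMult

open Cfsg.Spor CfsgLib.CosetEnum CfsgLib.ThPres

attribute [local irreducible] certS certR certV relsTh pRels certL

variable {Δ : Type} [Group Δ] {τ : Δ →* Th} {ℓ : ℕ}

theorem odd_sqrt (e : Ext τ ℓ) (hℓ : ℓ ≠ 2) {k : Δ} (hk : τ k = 1) :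
    ∃ m : ℕ, k * (k ^ m * k ^ m) = 1 := by
  obtain ⟨m, hm⟩ := e.prime.odd_of_ne_two hℓ
  exact ⟨m, by rw [← pow_add, ← pow_succ', show m + m + 1 = ℓ by omega, e.exp hk]⟩

theorem lift_involution (e : Ext τ ℓ) (hℓ : ℓ ≠ 2) {g : ℕ} (hg : g < 5) :
    ∃ x, τ x = tg g ∧ x * x = 1 := by
  obtain ⟨x, hx⟩ := e.surj (tg g)
  have hk : τ (x * x) = 1 := by rw [map_mul, hx, tg_sq hg]
  obtain ⟨m, hm⟩ := odd_sqrt e hℓ hk
  refine ⟨x * (x * x) ^ m, by rw [map_mul, map_pow, hk, one_pow, mul_one, hx], ?_⟩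
  have hc : Commute ((x * x) ^ m) x := ((e.commute_of_tau hk x)).pow_left m
  rw [mul_assoc, ← mul_assoc ((x * x) ^ m), hc.eq, mul_assoc x, ← mul_assoc x x]
  exact hm

theorem exists_pre_odd (e : Ext τ ℓ) (hℓ : ℓ ≠ 2) :
    ∃ L : ℕ → Δ, Pre τ L ∧ prodW L wU2 = 1 := by
  obtain ⟨A, hA, hA2⟩ := lift_involution e hℓ (g := 0) (by norm_num)
  obtain ⟨B, hB, hB2⟩ := lift_involution e hℓ (g := 1) (by norm_num)
  obtain ⟨C, hC, hC2⟩ := lift_involution e hℓ (g := 2) (by norm_num)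
  obtain ⟨D, hD, hD2⟩ := lift_involution e hℓ (g := 3) (by norm_num)
  obtain ⟨E, hE, hE2⟩ := lift_involution e hℓ (g := 4) (by norm_num)
  obtain ⟨S0, hS0⟩ := e.surj (tg 5)
  obtain ⟨T0, hT0⟩ := e.surj (tg 7)
  obtain ⟨U0, hU0⟩ := e.surj (tg 9)
  have i6 : tg 6 = (tg 5)⁻¹ := eq_inv_of_mul_eq_one_right (tg_inv 5)
  have i8 : tg 8 = (tg 7)⁻¹ := eq_inv_of_mul_eq_one_right (tg_inv 7)
  have i10 : tg 10 = (tg 9)⁻¹ := eq_inv_of_mul_eq_one_right (tg_inv 9)
  -- s
  set z := T0⁻¹ * S0 * T0 * (S0 * S0)⁻¹ with hz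
  have hzk : τ z = 1 := by
    have h := relTh_one wTS (mem_th (by simp [pWords]))
    simp only [wTS, prodW_cons, prodW_nil, mul_one, i6, i8] at h
    rw [hz]; simp only [map_mul, map_inv, hT0, hS0, mul_inv_rev]
    simpa only [mul_assoc] using h
  -- t
  set x := T0 ^ 3 with hx
  set y := U0⁻¹ * T0 * U0 * T0 with hy
  have hxk : τ x = 1 := by
    have h := relTh_one wT3 (mem_th (by simp [pWords]))
    simp only [wT3, prodW_cons, prodW_nil, mul_one] at h
    rw [hx, map_pow, hT0, pow_succ, pow_two, mul_assoc]; exact h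
  have hyk : τ y = 1 := by
    have h := relTh_one wUT (mem_th (by simp))
    simp only [wUT, prodW_cons, prodW_nil, mul_one, i10] at h
    rw [hy]; simp only [map_mul, map_inv, hT0, hU0]
    simpa only [mul_assoc] using h
  set w := y * x⁻¹ with hw
  have hwk : τ w = 1 := by rw [hw, map_mul, map_inv, hxk, hyk, inv_one, mul_one]
  -- u
  have hu2 : tg 9 * tg 9 = tg 0 * tg 2 := by
    have h := relTh_one wU2 (mem_th (by simp [rCen]))
    simp only [wU2, prodW_cons, prodW_nil, mul_one] at h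
    have s0 : (tg 0)⁻¹ = tg 0 := inv_eq_of_mul_eq_one_right (tg_sq (by norm_num))
    have s2 : (tg 2)⁻¹ = tg 2 := inv_eq_of_mul_eq_one_right (tg_sq (by norm_num))
    rw [← mul_assoc, mul_eq_one_iff_eq_inv, mul_inv_rev, s0, s2] at h
    exact h
  obtain ⟨k, hk, hU0sq, hkc⟩ := e.exists_eq (x := U0 * U0) (y := A * C) (by
    rw [map_mul, map_mul, hU0, hA, hC, hu2])
  obtain ⟨m, hm⟩ := odd_sqrt e hℓ hk
  refine ⟨letters A B C D E (S0 * z) (T0 * w) (U0 * k ^ m), ?_⟩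
  set L := letters A B C D E (S0 * z) (T0 * w) (U0 * k ^ m) with hL
  have l : Lifts τ L := by
    refine ⟨fun g => ?_, fun g => ?_⟩
    · by_cases hg : g < 11
      · interval_cases g <;> simp only [hL, letters, List.getD_cons_zero, List.getD_cons_succ] <;>
          simp [hA, hB, hC, hD, hE, hS0, hT0, hU0, hzk, hwk, hk, i6, i8, i10]
      · rw [hL, letters, List.getD_eq_default _ _ (by simp; omega), map_one, tg, if_neg hg]
    · by_cases hg : g < 11
      · interval_cases g <;> simp [hL, letters, inv11, hA2, hB2, hC2, hD2, hE2]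
      · have hi : inv11 g = g := by rw [inv11, List.getD_eq_default _ _ (by simp; omega)]
        rw [hi, hL, letters, List.getD_eq_default _ _ (by simp; omega), one_mul]
  have sq : ∀ g < 5, L g * L g = 1 := fun g hg => by
    interval_cases g <;> simp [hL, letters, hA2, hB2, hC2, hD2, hE2]
  have hzc : ∀ y, Commute z y := e.commute_of_tau hzk
  have hwc : ∀ y, Commute w y := e.commute_of_tau hwk
  have hkm : ∀ y, Commute (k ^ m) y := fun y => (hkc y).pow_left m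
  have rel : ∀ {v : List ℕ}, v ∈ relsTh → τ (prodW L v) = 1 := fun hv => rel_tau l hv
  have dih : ∀ {P Q : Δ} {n : ℕ}, P * P = 1 → Q * Q = 1 → τ ((P * Q) ^ n) = 1 → (P * Q) ^ n = 1 :=
    fun hP hQ h => e.odd_sq hℓ h (e.dihedral hP hQ h)
  have three : ∀ i j, i < 5 → j < 5 → [i, j, i, j, i, j] ∈ relsTh →
      prodW L [i, j, i, j, i, j] = 1 := fun i j hi hj hv => by
    have h : prodW L [i, j, i, j, i, j] = (L i * L j) ^ 3 := by simp [pow_succ, mul_assoc]
    rw [h]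
    exact dih (sq i hi) (sq j hj) (h ▸ rel hv)
  have hac : τ (L 0 * L 2) = tg 0 * tg 2 := by rw [map_mul, l.val, l.val]
  have hcd : prodW L wCD = 1 := by
    have h : prodW L wCD = L 0 * (L 3 * L 2) ^ 4 := by simp [wCD, pow_succ, mul_assoc]
    have hk0 : τ (prodW L wCD) = 1 := rel (mem_th (by simp [pWords, gWords]))
    rw [h] at hk0 ⊢
    have h8 : τ ((L 3 * L 2) ^ 8) = 1 := by
      rw [map_mul] at hk0
      rw [show 8 = 4 + 4 from rfl, pow_add, map_mul, eq_inv_of_mul_eq_one_right hk0, ← mul_inv_rev,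
        ← map_mul, sq 0 (by norm_num), map_one, inv_one]
    exact e.odd_sq hℓ hk0 (e.pair_sq (sq 0 (by norm_num))
      (by rw [← pow_add, dih (sq 3 (by norm_num)) (sq 2 (by norm_num)) h8]) hk0)
  have hes : prodW L wES = 1 := by
    have i5 : L 6 = (L 5)⁻¹ := l.inv_eq 5
    have e4 : L 4 * L 4 = 1 := sq 4 (by norm_num)
    have h : prodW L wES = L 4 * ((L 5)⁻¹ * L 4 * L 5) * ((L 5 ^ 3)⁻¹ * L 4 * L 5 ^ 3) := by
      simp [wES, i5, pow_succ, mul_assoc]
    have hY : ((L 5 ^ 3)⁻¹ * L 4 * L 5 ^ 3) * ((L 5 ^ 3)⁻¹ * L 4 * L 5 ^ 3) = 1 := by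
      rw [show (L 5 ^ 3)⁻¹ * L 4 * L 5 ^ 3 * ((L 5 ^ 3)⁻¹ * L 4 * L 5 ^ 3) =
        (L 5 ^ 3)⁻¹ * (L 4 * L 4) * L 5 ^ 3 by group, e4, mul_one, inv_mul_cancel]
    have hk0 : τ (prodW L wES) = 1 := rel (mem_th (by simp [pWords]))
    rw [h] at hk0 ⊢
    refine e.triple hℓ e4 ?_ hY ?_ hk0
    · rw [show (L 5)⁻¹ * L 4 * L 5 * ((L 5)⁻¹ * L 4 * L 5) = (L 5)⁻¹ * (L 4 * L 4) * L 5 by group,
        e4, mul_one, inv_mul_cancel]
    · rw [map_mul] at hk0
      rw [map_pow, eq_inv_of_mul_eq_one_left hk0, pow_two, ← mul_inv_rev, ← map_mul, hY, map_one,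
        inv_one]
  have hsts : prodW L wTS = 1 := by
    simp only [wTS, prodW_cons, prodW_nil, mul_one, hL, letters, List.getD_cons_zero, List.getD_cons_succ]
    rw [show (T0 * w)⁻¹ * (S0 * z * (T0 * w * ((S0 * z)⁻¹ * (S0 * z)⁻¹))) =
      w⁻¹ * (T0⁻¹ * S0 * (z * T0) * w * z⁻¹ * S0⁻¹ * z⁻¹ * S0⁻¹) by group, (hzc T0).eq,
      show T0⁻¹ * S0 * (T0 * z) * w * z⁻¹ * S0⁻¹ * z⁻¹ * S0⁻¹ =
        T0⁻¹ * S0 * T0 * (z * w) * z⁻¹ * (S0⁻¹ * z⁻¹) * S0⁻¹ by group, (hzc w).eq,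
      (hzc S0).inv_inv.eq.symm,
      show T0⁻¹ * S0 * T0 * (w * z) * z⁻¹ * (z⁻¹ * S0⁻¹) * S0⁻¹ =
        T0⁻¹ * S0 * T0 * (w * z⁻¹) * (S0⁻¹ * S0⁻¹) by group,
      show T0⁻¹ * S0 * T0 * (w * z⁻¹) * (S0⁻¹ * S0⁻¹) =
        T0⁻¹ * S0 * T0 * ((w * z⁻¹) * (S0 * S0)⁻¹) by group,
      ((hwc _).mul_left (hzc _).inv_left).eq,
      show T0⁻¹ * S0 * T0 * ((S0 * S0)⁻¹ * (w * z⁻¹)) = z * (w * z⁻¹) by rw [hz]; group,
      ← (hzc w).inv_left.eq, mul_inv_cancel_left, inv_mul_cancel]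
  have hutut : prodW L wUT = prodW L wT3 := by
    simp only [wUT, wT3, prodW_cons, prodW_nil, mul_one, hL, letters, List.getD_cons_zero,
      List.getD_cons_succ]
    have eL : (U0 * k ^ m)⁻¹ * (T0 * w * (U0 * k ^ m * (T0 * w))) = y * (w * w) := by
      rw [show (U0 * k ^ m)⁻¹ * (T0 * w * (U0 * k ^ m * (T0 * w))) =
        (k ^ m)⁻¹ * (U0⁻¹ * T0 * (w * U0) * (k ^ m * T0) * w) by group, (hwc U0).eq, (hkm T0).eq,
        show U0⁻¹ * T0 * (U0 * w) * (T0 * k ^ m) * w = U0⁻¹ * T0 * U0 * (w * T0) * (k ^ m * w) by group,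
        (hwc T0).eq, (hkm w).eq,
        show U0⁻¹ * T0 * U0 * (T0 * w) * (w * k ^ m) = y * (w * w) * k ^ m by rw [hy]; group,
        ← (hkm _).eq, inv_mul_cancel_left]
    have eR : T0 * w * (T0 * w * (T0 * w)) = x * (w * w * w) := by
      rw [show T0 * w * (T0 * w * (T0 * w)) = (T0 * w) * (T0 * w) * (T0 * w) by group,
        show T0 * w = T0 * w from rfl]
      have hp : (T0 * w) ^ 3 = T0 ^ 3 * w ^ 3 := (hwc T0).symm.mul_pow 3
      simp only [pow_succ, pow_zero, one_mul] at hp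
      rw [hp, hx]; simp only [pow_succ, pow_zero, one_mul]
    rw [eL, eR, show x * (w * w * w) = x * ((w * w) * w) from rfl, ← ((hwc (w * w))).eq,
      ← mul_assoc x w, hw, (e.comm (show τ x⁻¹ = 1 by rw [map_inv, hxk, inv_one]) y),
      mul_inv_cancel_left]
  have hU2 : prodW L wU2 = 1 := by
    simp only [wU2, prodW_cons, prodW_nil, mul_one, hL, letters, List.getD_cons_zero, List.getD_cons_succ]
    rw [show U0 * k ^ m * (U0 * k ^ m * (C * A)) = U0 * (k ^ m * U0) * (k ^ m * (C * A)) by group,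
      (hkm U0).eq, ← mul_assoc U0 U0, hU0sq,
      show A * C * k * k ^ m * (k ^ m * (C * A)) = A * C * (k * (k ^ m * k ^ m)) * (C * A) by group,
      hm, mul_one, mul_assoc A, ← mul_assoc C, hC2, one_mul, hA2]
  refine ⟨⟨l, sq, hcd, three 0 1 (by norm_num) (by norm_num) (mem_th (by simp [pWords, gWords, wAB])),
    three 1 2 (by norm_num) (by norm_num) (mem_th (by simp [pWords, gWords, wBC])),
    three 3 4 (by norm_num) (by norm_num) (mem_th (by simp [pWords, gWords, wDE])), hes, hsts, hutut,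
    by rw [wU4, prodW_append, hU2, one_mul]⟩, hU2⟩

theorem rel_all_odd (e : Ext τ ℓ) (hℓ : ℓ ≠ 2) :
    ∃ L : ℕ → Δ, Lifts τ L ∧ ∀ w ∈ relsTh, prodW L w = 1 := by
  obtain ⟨L, p, hU2⟩ := exists_pre_odd e hℓ
  have l := p.toLifts
  have rel : ∀ {v : List ℕ}, v ∈ relsTh → τ (prodW L v) = 1 := fun hv => rel_tau l hv
  have conj : ∀ {x g : Δ}, x * x = 1 → g⁻¹ * x * g * (g⁻¹ * x * g) = 1 := fun {x g} hx => by
    rw [show g⁻¹ * x * g * (g⁻¹ * x * g) = g⁻¹ * (x * x) * g by group, hx, mul_one, inv_mul_cancel]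
  have hue : prodW L (wUX 4) = 1 := by
    have hk : τ (prodW L (wUX 4)) = 1 := rel (mem_th (by simp))
    have h : prodW L (wUX 4) = ((L 9)⁻¹ * L 4 * L 9) * L 4 := by simp [wUX, p.l9, mul_assoc]
    rw [h] at hk ⊢
    exact e.odd_sq hℓ hk (e.pair_sq (conj (p.sq 4 (by norm_num))) (p.sq 4 (by norm_num)) hk)
  have hqc : prodW L wQC = 1 := by
    set R : List ℕ := wQC.drop 5 with hR
    have hsplit : wQC = [10, 3, 2, 3, 9] ++ R := rfl
    have hlt : R.all (fun g => Nat.blt g 9) = true := by decide +kernel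
    simp only [List.all_eq_true, Nat.blt_eq] at hlt
    have hRR : prodW L R * prodW L R = 1 := by
      rw [← prodW_append]
      have h2 : ∀ g ∈ R ++ R, g < 9 := fun g hg => (List.mem_append.1 hg).elim (hlt g) (hlt g)
      rw [p_eq p e (m := []) (by decide +kernel) h2 (by simp), prodW_nil]
    have hk : τ (prodW L wQC) = 1 := by
      rw [l.word]
      have h := qc_tau
      exact h
    rw [hsplit, prodW_append] at hk ⊢
    refine e.odd_sq hℓ hk (e.pair_sq ?_ hRR hk)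
    have hD : (L 3 * L 2 * L 3) * (L 3 * L 2 * L 3) = 1 := by
      rw [show L 3 * L 2 * L 3 * (L 3 * L 2 * L 3) = L 3 * L 2 * (L 3 * L 3) * L 2 * L 3 by group,
        p.sq 3 (by norm_num), mul_one, mul_assoc (L 3) (L 2) (L 2), p.sq 2 (by norm_num), mul_one,
        p.sq 3 (by norm_num)]
    have hv : prodW L [10, 3, 2, 3, 9] = (L 9)⁻¹ * (L 3 * L 2 * L 3) * L 9 := by
      simp [p.l9, mul_assoc]
    rw [hv]
    exact conj hD
  have m : Mid τ L := ⟨p, hue, hqc⟩
  obtain ⟨hA, hG6, hZ3, hZ4, -, h4⟩ := after_R m e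
  have hz2 : prodW L wZ2 = 1 := by
    have hk : τ (prodW L wZ2) = 1 := rel (mem_th (by simp [rCen]))
    have h2 : prodW L wZ2 * prodW L wZ2 = 1 :=
      e.odd_sq hℓ (by rw [map_mul, hk, one_mul]) (by rw [pow_two]; exact h4)
    exact e.odd_sq hℓ hk (by rw [pow_two]; exact h2)
  have huy : prodW L wUY = 1 := by
    have hk : τ (prodW L wUY) = 1 := rel (mem_th (by simp))
    have h : prodW L wUY = ((L 9)⁻¹ * ((L 1)⁻¹ * (L 2 * L 0) * L 1) * L 9) *
        ((L 1)⁻¹ * (L 0 * L 2) * L 1) * L 4 := by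
      simp [wUY, p.l9, p.sq_inv (show (1 : ℕ) < 5 by norm_num), mul_assoc]
    rw [h] at hk ⊢
    have hca : (L 2 * L 0) * (L 2 * L 0) = 1 := by rw [← p.comm_ac.eq]; exact p.ac_sq
    refine e.triple hℓ (conj (conj hca)) (conj p.ac_sq) (p.sq 4 (by norm_num)) ?_ hk
    rw [map_mul] at hk
    rw [map_pow, eq_inv_of_mul_eq_one_left hk, pow_two, ← mul_inv_rev, ← map_mul,
      p.sq 4 (by norm_num), map_one, inv_one]
  have hV : prodW L wZ1 = 1 := by
    obtain ⟨-, -, -, -, -, hK, hsubs⟩ := subsS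
    have mv : Model certV (sig p e).range (certGen certV [0, 1, 2, 3, 4, 9, 10] L) := by
      refine liftModel e l liftV (fun w hw => ?_) (fun w hw => relTh_one w (mem_th ?_)) fun w hw => ?_
      · rcases List.mem_append.1 hw with hw | hw
        · exact pWords_one p e w hw
        simp only [List.mem_cons, List.not_mem_nil, or_false] at hw
        rcases hw with rfl | rfl | rfl | rfl | rfl | rfl
        exacts [p.ux e (Or.inl rfl), p.ux e (Or.inr rfl), hue, hU2, hA, huy]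
      · rw [List.mem_singleton] at hw; simp [hw]
      · rw [hsubs] at hw
        simp only [List.mem_cons, List.not_mem_nil, or_false] at hw
        rcases hw with rfl | rfl | rfl | rfl | rfl <;>
          rw [prodW_cons, prodW_nil, mul_one, certGen, if_pos (by rw [hK]; norm_num)] <;>
          exact ⟨pGen _, sig_gen p e (by decide)⟩
    exact range_trivial p e (back_mem certV_complete mv backV) (rel (mem_th (by simp)))
  refine ⟨L, l, fun w hw => ?_⟩
  have h := th_rels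
  simp only [List.all_eq_true, List.contains_iff_mem] at h
  have h' := h w hw
  simp only [List.cons_append, List.mem_cons, List.mem_append, List.not_mem_nil, or_false, rCen] at h'
  rcases h' with rfl | (h' | rfl | rfl | rfl | rfl | rfl | rfl) | rfl | rfl | rfl | rfl | rfl | rfl
  exacts [prodW_nil _, pWords_one p e w h', hU2, hA, hG6, hz2, hZ3, hZ4, p.ux e (Or.inl rfl),
    p.ux e (Or.inr rfl), hue, (rKnown_one m e wUT (by simp [rKnown])), huy, hV]

end CfsgLib.ThMult
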