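import Cfsg.Agent.Lib.ThMult.Two
import Cfsg.Agent.Lib.ThMult.Odd
import Cfsg.Agent.Lib.StemExt.Basic
import Cfsg.Agent.Lib.Schur.InvolutionLift

/-!
The Schur multiplier of the Thompson group is trivial.
-/

set_option autoImplicit false
set_option linter.style.haveILetI false

namespace CfsgLib.ThMult

open Cfsg.Spor CfsgLib.CosetEnum CfsgLib.ThPres CfsgLib.ThRep
open scoped commutatorElement

attribute [local irreducible] relsTh

/-- the lifts of the eight generators -/
def genMap {Δ : Type} (L : ℕ → Δ) : Th.Gen → Δ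
  | .a => L 0
  | .b => L 1
  | .c => L 2
  | .d => L 3
  | .e => L 4
  | .s => L 5
  | .t => L 7
  | .u => L 9

theorem relFactors_lt :
    (relFactors.all fun r => r.all fun f => f.1.all fun g => Nat.blt g 16) = true := by decide +kernel

variable {Δ : Type} [Group Δ] {τ : Δ →* Th} {L : ℕ → Δ}

theorem lift_free16 (l : Lifts τ L) (hsq : ∀ g < 5, L g * L g = 1) {g : ℕ} (hg : g < 16) :
    FreeGroup.lift (genMap L) (free16 g) = L (base16 g) := by
  have h6 : L 6 = (L 5)⁻¹ := l.inv_eq 5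
  have h8 : L 8 = (L 7)⁻¹ := l.inv_eq 7
  have h10 : L 10 = (L 9)⁻¹ := l.inv_eq 9
  have hi : ∀ g < 5, (L g)⁻¹ = L g := fun g hg => inv_eq_of_mul_eq_one_right (hsq g hg)
  interval_cases g <;> simp [free16, base16, genMap, Th.a, Th.b, Th.c, Th.d, Th.e, Th.s, Th.t, Th.u,
    h6, h8, h10, hi]

theorem sq_of_lifts (l : Lifts τ L) {g : ℕ} (hg : g < 5) : L g * L g = 1 := by
  have h := l.inv g
  rwa [show inv11 g = g by interval_cases g <;> rfl] at h

/-- lifts satisfying all relators give a section -/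
theorem exists_section (l : Lifts τ L) (h : ∀ w ∈ relsTh, prodW L w = 1) :
    ∃ φ : Th →* Δ, τ.comp φ = MonoidHom.id Th := by
  have hlt := relFactors_lt
  simp only [List.all_eq_true, Nat.blt_eq] at hlt
  have hrel : ∀ r ∈ coxRelators Th.edges ∪ {r | r ∈ Th.extra}, FreeGroup.lift (genMap L) r = 1 := by
    intro r hr
    rcases hr with hr | hr
    · obtain ⟨i, hi, -⟩ := hr
      simp [coxNodes, Th.edges] at hi
    · obtain ⟨f, hf, rfl⟩ := List.mem_map.1 (facFree_eq ▸ (hr : r ∈ Th.extra))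
      have hw : canon ((flat f).map base16) ∈ relsTh := by
        unfold relsTh
        exact List.mem_map_of_mem hf
      have h1 := h _ hw
      rw [l.canon_eq] at h1
      rw [facFree, ← prodW_flat, map_prodW, ← h1, prodW, prodW, List.map_map]
      refine congrArg List.prod (List.map_congr_left fun g hg => ?_)
      refine lift_free16 l (fun g hg => sq_of_lifts l hg) ?_
      simp only [flat, List.mem_flatMap, List.mem_flatten, List.mem_replicate] at hg
      obtain ⟨x, hx, y, ⟨-, rfl⟩, hy⟩ := hg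
      exact hlt f hf x hx g hy
  refine ⟨PresentedGroup.toGroup hrel, PresentedGroup.ext fun x => ?_⟩
  rw [MonoidHom.comp_apply, PresentedGroup.toGroup.of, MonoidHom.id_apply]
  have hof : ∀ {g : ℕ} {x : Th.Gen}, g < 11 → free16 g = FreeGroup.of x →
      τ (L g) = PresentedGroup.of x := fun {g x} hg he => by
    rw [l.val, tg_mk hg, he]
    rfl
  cases x <;> simp only [genMap] <;> exact hof (by norm_num) rfl

theorem ker_bot_of_rels [Finite Δ] (hτ : Cfsg.IsStemExtension τ) (l : Lifts τ L)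
    (h : ∀ w ∈ relsTh, prodW L w = 1) : τ.ker = ⊥ := by
  obtain ⟨φ, hφ⟩ := exists_section l h
  have hid : ∀ x, τ (φ x) = x := fun x => DFunLike.congr_fun hφ x
  have hle : commutator Δ ≤ φ.range := by
    rw [commutator_eq_closure, Subgroup.closure_le]
    rintro _ ⟨x, y, rfl⟩
    rw [SetLike.mem_coe, CfsgLib.Schur.commutatorElement_congr τ hτ.2.1 (hid (τ x)).symm (hid (τ y)).symm]
    exact ⟨⁅τ x, τ y⁆, map_commutatorElement φ _ _⟩
  rw [eq_bot_iff]
  intro k hk
  obtain ⟨x, rfl⟩ := hle (hτ.2.2 hk)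
  rw [MonoidHom.mem_ker, hid] at hk
  rw [Subgroup.mem_bot, hk, map_one]

/-- the multiplier of the Thompson group -/
theorem multiplier_th : Cfsg.HasCyclicSchurMultiplier Th 1 := by
  haveI := finite_Th
  refine CfsgLib.StemExt.hasCyclicSchurMultiplier_one fun Δ _ _ σ hσ => ?_
  by_contra hne
  obtain ⟨ℓ, hℓ, hdvd⟩ := Nat.exists_prime_and_dvd (n := Nat.card σ.ker) (by
    rw [Ne, Subgroup.card_eq_one]; exact hne)
  obtain ⟨E, _, _, τ, hτ, hcard⟩ := CfsgLib.Schur.InvolLift.exists_stem_ker_prime hσ hℓ hdvd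
  have e : Ext τ ℓ := by
    refine ⟨hτ.1, fun hk y => (Subgroup.mem_center_iff.mp (hτ.2.1 (MonoidHom.mem_ker.2 hk)) y), hℓ,
      fun {k} hk => ?_⟩
    have h1 : (⟨k, MonoidHom.mem_ker.2 hk⟩ : τ.ker) ^ ℓ = 1 := hcard ▸ pow_card_eq_one'
    simpa using congrArg Subtype.val h1
  have hbot : τ.ker = ⊥ := by
    by_cases h2 : ℓ = 2
    · subst h2
      rw [eq_bot_iff]
      exact fun z hz => Subgroup.mem_bot.2 (no_two e hτ.2.1 hτ.2.2 (MonoidHom.mem_ker.1 hz))
    · obtain ⟨L, l, h⟩ := rel_all_odd e h2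
      exact ker_bot_of_rels hτ l h
  rw [hbot, Subgroup.card_bot] at hcard
  exact hℓ.ne_one hcard.symm

end CfsgLib.ThMult
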