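import Cfsg.Agent.Lib.ThMult.Common

/-!
The point stabiliser lifts, and what the certificate of the centraliser gives.
-/

set_option autoImplicit false
set_option linter.style.haveILetI false

namespace CfsgLib.ThMult

open Cfsg.Spor CfsgLib.CosetEnum CfsgLib.ThPres

attribute [local irreducible] certS certR certV relsTh pRels certL

variable {Δ : Type} [Group Δ] {τ : Δ →* Th} {ℓ : ℕ} {L : ℕ → Δ}

theorem exists_sig (p : Pre τ L) (e : Ext τ ℓ) : ∃ f : PT →* Δ, ∀ g < 9, f (pGen g) = L g := by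
  let q : Fin 9 → Δ := fun i => L i
  have hq : ∀ g < 9, FreeGroup.lift q (pFree g) = L g := fun g hg => by simp [pFree, hg, q]
  have h := p_rels
  simp only [List.all_eq_true, Bool.or_eq_true, List.any_eq_true, List.contains_iff_mem, List.mem_range,
    beq_iff_eq] at h
  have hlt : (pRels.all fun r => r.all fun g => Nat.blt g 9) = true := by decide +kernel
  simp only [List.all_eq_true, Nat.blt_eq] at hlt
  have hr : ∀ r ∈ pRelSet, FreeGroup.lift q r = 1 := by
    rintro _ ⟨r, hr, rfl⟩
    rw [map_prodW]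
    refine (prodW_congr fun g hg => hq g (hlt r hr g hg)).trans ?_
    rcases h r hr with h1 | ⟨g, -, rfl⟩
    · exact pWords_one p e r h1
    · simp [p.toLifts.inv g]
  refine ⟨PresentedGroup.toGroup (f := q) hr, fun g hg => ?_⟩
  rw [pGen, pFree, dif_pos hg]
  exact PresentedGroup.toGroup.of hr

/-- the lift of the point stabiliser -/
noncomputable def sig (p : Pre τ L) (e : Ext τ ℓ) : PT →* Δ := (exists_sig p e).choose

theorem sig_gen (p : Pre τ L) (e : Ext τ ℓ) {g : ℕ} (h : g < 9) : sig p e (pGen g) = L g :=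
  (exists_sig p e).choose_spec g h

theorem sig_word (p : Pre τ L) (e : Ext τ ℓ) {w : List ℕ} (h : ∀ g ∈ w, g < 9) :
    sig p e (prodW pGen w) = prodW L w := by
  rw [map_prodW]
  exact prodW_congr fun g hg => sig_gen p e (h g hg)

theorem tau_sig (p : Pre τ L) (e : Ext τ ℓ) (x : PT) : τ (sig p e x) = toP x := by
  have h : τ.comp (sig p e) = toP := PresentedGroup.ext fun i => by
    have hi : pGen i.val = PresentedGroup.of i := by simp [pGen, pFree]; rfl
    rw [MonoidHom.comp_apply, ← hi, sig_gen p e i.2, toP_gen i.2, p.toLifts.val]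
  exact DFunLike.congr_fun h x

theorem range_trivial (p : Pre τ L) (e : Ext τ ℓ) {y : Δ} (hy : y ∈ (sig p e).range) (h : τ y = 1) :
    y = 1 := by
  obtain ⟨x, rfl⟩ := hy
  rw [tau_sig, ← map_one toP] at h
  rw [toP_injective h, map_one]

theorem p_eq (p : Pre τ L) (e : Ext τ ℓ) {l m : List ℕ} (h : tw.eq l m = true)
    (hl : ∀ g ∈ l, g < 9) (hm : ∀ g ∈ m, g < 9) : prodW L l = prodW L m := by
  rw [← sig_word p e hl, ← sig_word p e hm, eq_sound0 h]

/-- all that the certificate of the centraliser assumes -/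
structure Mid (τ : Δ →* Th) (L : ℕ → Δ) : Prop extends Pre τ L where
  ue : prodW L (wUX 4) = 1
  qc : prodW L wQC = 1

theorem rKnown_one (m : Mid τ L) (e : Ext τ ℓ) : ∀ w ∈ rKnown, prodW L w = 1 := by
  intro w hw
  rcases List.mem_append.1 hw with hw | hw
  · exact pWords_one m.toPre e w hw
  simp only [List.mem_cons, List.not_mem_nil, or_false] at hw
  rcases hw with rfl | rfl | rfl | rfl | rfl | rfl
  · exact m.toPre.ux e (Or.inl rfl)
  · exact m.toPre.ux e (Or.inr rfl)
  · exact m.ue
  · have h := (m.toPre.t3 e).2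
    simpa [wUT, m.toPre.l9, mul_assoc] using h
  · exact m.u4
  · exact m.qc

theorem rModel (m : Mid τ L) (e : Ext τ ℓ) {H : Subgroup Δ}
    (hH : ∀ g ∈ [0, 2, 3, 4, 5, 7], L g ∈ H) :
    Model certR H (certGen certR [0, 2, 3, 4, 5, 6, 7, 8, 9, 10] L) := by
  obtain ⟨-, -, hK, hsubs, -⟩ := subsS
  refine liftModel e m.toLifts liftR (rKnown_one m e)
    (fun w hw => relTh_one w (mem_th (List.mem_append_left _ (List.mem_append_right _ hw)))) fun w hw => ?_
  rw [hsubs] at hw
  simp only [List.mem_cons, List.not_mem_nil, or_false] at hw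
  rcases hw with rfl | rfl | rfl | rfl | rfl | rfl <;>
    rw [prodW_cons, prodW_nil, mul_one, certGen, if_pos (by rw [hK]; norm_num)] <;>
    exact hH _ (by decide)

theorem after_R (m : Mid τ L) (e : Ext τ ℓ) :
    prodW L wZA = 1 ∧ prodW L wG6 = 1 ∧ prodW L wZ3 = 1 ∧ prodW L wZ4 = 1 ∧
      prodW L wU2 * (prodW L wZ2 * prodW L wZ2) = 1 ∧
      (prodW L wZ2 * prodW L wZ2) * (prodW L wZ2 * prodW L wZ2) = 1 := by
  have md := rModel m e (H := (sig m.toPre e).range) fun g hg =>
    ⟨pGen g, sig_gen m.toPre e (by simp at hg; omega)⟩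
  have hb := backR
  simp only [List.all_eq_true] at hb
  have hth : ∀ w ∈ rCen, τ (prodW L w) = 1 := fun w hw =>
    rel_tau m.toLifts (mem_th (List.mem_append_left _ (List.mem_append_right _ hw)))
  have key : ∀ w ∈ [wZA, wG6, wZ3, wZ4, wU2 ++ (wZ2 ++ wZ2), (wZ2 ++ wZ2) ++ (wZ2 ++ wZ2)],
      τ (prodW L w) = 1 → prodW L w = 1 := fun w hw h =>
    range_trivial m.toPre e (back_mem certR_complete md (hb w hw)) h
  have h2 := hth wZ2 (by simp [rCen])
  have h5 := key (wU2 ++ (wZ2 ++ wZ2)) (by simp) (by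
    rw [prodW_append, prodW_append, map_mul, map_mul, hth wU2 (by simp [rCen]), h2, one_mul, one_mul])
  have h6 := key ((wZ2 ++ wZ2) ++ (wZ2 ++ wZ2)) (by simp) (by
    rw [prodW_append, prodW_append, map_mul, map_mul, h2, one_mul, one_mul])
  simp only [prodW_append] at h5 h6
  exact ⟨key _ (by simp) (hth _ (by simp [rCen])), key _ (by simp) (hth _ (by simp [rCen])),
    key _ (by simp) (hth _ (by simp [rCen])), key _ (by simp) (hth _ (by simp [rCen])), h5, h6⟩

end CfsgLib.ThMult
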