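import Cfsg.Agent.Lib.ThMult.Words
import Cfsg.Agent.Lib.ThPres.CentQ

/-!
Kernel checks for conjugacy of some involutions.
-/

set_option autoImplicit false
set_option Elab.async false

namespace CfsgLib.ThMult

open CfsgLib.CosetEnum CfsgLib.ThPres CfsgLib.ThRep

/-- a word that conjugates a to e -/
def gAE : List ℕ := [1, 0, 2, 1, 3, 4, 5, 4, 9, 5, 4, 6, 2, 3, 4, 3, 1, 2, 3, 0, 1, 2, 3]

theorem wit_ae : Nat.beq (wordMat (0 :: gAE)) (wordMat (gAE ++ [4])) = true := by decide +kernel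

/-- conjugators inside the point stabiliser: source, word, target -/
def pConj : List (List ℕ × List ℕ × List ℕ) :=
  [([0], [1, 0], [1]), ([0], [1, 0, 2, 1], [2]), ([0], [1, 0, 2, 1, 3, 2, 3], [0, 2]), ([4], [3, 4], [3]),
    ([4], [3, 2, 3, 4, 3, 2, 3], [0, 4]), ([4], [3, 2, 3, 4, 3, 2, 1, 0, 3, 2, 1], [2, 4]),
    ([4], [3, 2, 1, 3, 2, 3, 4, 3, 2, 1, 0, 3, 2, 1, 3], [0, 2, 4])]

theorem pConj_ok : (pConj.all fun e => tw.eq (e.1 ++ e.2.1) (e.2.1 ++ e.2.2) &&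
    (e.1 ++ e.2.1 ++ e.2.2).all fun g => Nat.blt g 9) = true := by decide +kernel

theorem y_ac : tw.eq ([2, 0] ++ [1, 0, 2, 1] ++ [0, 2]) [1, 0, 2, 1] = true := by decide +kernel

/-- a product of generators -/
def srcW (J : List ℕ) : List ℕ := J.flatMap fun j => qGens.getD j []

/-- its conjugate by the last letter -/
noncomputable def imgW (J : List ℕ) : List ℕ := J.flatMap fun j => qElts.getD (qConjU.getD j 0) []

/-- the five products -/
def phiJ : List (List ℕ) := [[6], [1, 2, 4, 8], [1, 2, 5, 6], [0, 3, 5, 6, 7, 8], [0, 2, 3, 4, 6, 7]]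

/-- the relations among them -/
noncomputable def phiOK : Bool :=
  let J := fun i => phiJ.getD i []
  tw.eq (imgW (J 0)) (srcW (J 1)) && tw.eq (imgW (J 1)) ([2, 0] ++ srcW (J 0) ++ [0, 2]) &&
    tw.eq ([6] ++ imgW (J 2) ++ [5]) (srcW (J 3)) && tw.eq ([6] ++ imgW (J 3) ++ [5]) (srcW (J 4)) &&
    tw.eq ([6] ++ imgW (J 4) ++ [5]) ([2, 0] ++ srcW (J 2) ++ [0, 2]) &&
    tw.eq (srcW (J 0) ++ (srcW (J 1) ++ (srcW (J 2) ++ (srcW (J 3) ++ srcW (J 4))))) ([3, 2, 3] ++ [0]) &&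
    phiJ.all fun l => l.all (fun j => Nat.blt j 9) &&
      (imgW l ++ srcW l).all (fun g => Nat.blt g 9)

theorem phi_ok : phiOK = true := by decide +kernel

end CfsgLib.ThMult
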