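import Cfsg.Agent.Lib.ThMult.Sigma
import Cfsg.Agent.Lib.ThMult.Witness
import Cfsg.Agent.Lib.Schur.InvolutionLift

/-!
A double cover: lifts of involutions are involutions, and signs can be chosen.
-/

set_option autoImplicit false
set_option linter.style.haveILetI false

namespace CfsgLib.ThMult

open Cfsg.Spor CfsgLib.CosetEnum CfsgLib.ThPres CfsgLib.ThRep
open CfsgLib.Schur.InvolLift (Double SqOne)

attribute [local irreducible] certS certR certV relsTh pRels certL

variable {Δ : Type} [Group Δ] {τ : Δ →* Th}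

theorem toDouble (e : Ext τ 2) : Double τ :=
  ⟨e.surj, fun hk y => e.comm hk y, fun hk => by
    have h := e.exp (show τ _ = 1 from hk)
    rwa [pow_two] at h⟩

theorem inv_swap {x v y : Th} (h : x * v = v * y) : v⁻¹ * x = y * v⁻¹ := by
  rw [eq_mul_inv_iff_mul_eq, mul_assoc, h, inv_mul_cancel_left]

theorem witness_ae : tg 0 * prodW tg gAE = prodW tg gAE * tg 4 := by
  refine rho_injective0 (Units.ext ?_)
  obtain ⟨g1, e1⟩ := rho_word (w := 0 :: gAE) (by decide)
  obtain ⟨g2, e2⟩ := rho_word (w := gAE ++ [4]) (by decide)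
  rw [Nat.eq_of_beq_eq_true wit_ae, ← e2, prodW_cons, prodW_append, prodW_cons, prodW_nil, mul_one] at e1
  exact e1

theorem witness_P {x v y : List ℕ} (h : (x, v, y) ∈ pConj) :
    prodW tg x * prodW tg v = prodW tg v * prodW tg y := by
  have h0 := List.all_eq_true.1 pConj_ok _ h
  simp only [Bool.and_eq_true, List.all_eq_true, Nat.blt_eq] at h0
  obtain ⟨he, hl⟩ := h0
  have e := congrArg toP (eq_sound0 he)
  rw [toP_word (fun g hg => hl g (by simp at hg ⊢; tauto)),
    toP_word (fun g hg => hl g (by simp at hg ⊢; tauto)), prodW_append, prodW_append] at e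
  exact e

theorem sq_lifts (e : Ext τ 2) : ∀ g < 5, SqOne τ (tg g) := by
  have D := toDouble e
  have a2 : ∀ {g : ℕ}, g < 5 → tg g * tg g = 1 := fun hg => tg_sq hg
  have inv' : ∀ {g : ℕ}, g < 5 → ∀ {p : Th}, p * tg g = p * tg g := fun _ _ => rfl
  have base : D.q (tg 4) = D.q (tg 0) :=
    D.q_conj (g := (prodW tg gAE)⁻¹) (inv_swap witness_ae) (a2 (by norm_num))
  have step : ∀ {x v y : List ℕ}, (x, v, y) ∈ pConj → prodW tg x * prodW tg x = 1 →
      D.q (prodW tg y) = D.q (prodW tg x) := fun {x v y} h hx =>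
    D.q_conj (g := (prodW tg v)⁻¹) (inv_swap (witness_P h)) hx
  have s0 : prodW tg [0] * prodW tg [0] = 1 := by simpa using a2 (g := 0) (by norm_num)
  have s4 : prodW tg [4] * prodW tg [4] = 1 := by simpa using a2 (g := 4) (by norm_num)
  have qb := step (x := [0]) (v := [1, 0]) (y := [1]) (by simp [pConj]) s0
  have qc := step (x := [0]) (v := [1, 0, 2, 1]) (y := [2]) (by simp [pConj]) s0
  have qac := step (x := [0]) (v := [1, 0, 2, 1, 3, 2, 3]) (y := [0, 2]) (by simp [pConj]) s0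
  have qd := step (x := [4]) (v := [3, 4]) (y := [3]) (by simp [pConj]) s4
  have qae := step (x := [4]) (v := [3, 2, 3, 4, 3, 2, 3]) (y := [0, 4]) (by simp [pConj]) s4
  have qce := step (x := [4]) (v := [3, 2, 3, 4, 3, 2, 1, 0, 3, 2, 1]) (y := [2, 4]) (by simp [pConj]) s4
  have qace := step (x := [4]) (v := [3, 2, 1, 3, 2, 3, 4, 3, 2, 1, 0, 3, 2, 1, 3]) (y := [0, 2, 4])
    (by simp [pConj]) s4
  simp only [prodW_cons, prodW_nil, mul_one] at qb qc qac qd qae qce qace
  have comm : ∀ i j, i < 5 → j < 5 → prodW tg [i, j, i, j] = 1 → tg j * tg i = tg i * tg j := by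
    intro i j hi hj h
    simp only [prodW_cons, prodW_nil, mul_one] at h
    calc tg j * tg i = (tg j)⁻¹ * (tg i)⁻¹ := by
          rw [inv_eq_of_mul_eq_one_right (a2 hi), inv_eq_of_mul_eq_one_right (a2 hj)]
      _ = tg i * tg j := by rw [← mul_inv_rev]; exact inv_eq_of_mul_eq_one_right (by rw [mul_assoc]; exact h)
  have cea : tg 4 * tg 0 = tg 0 * tg 4 :=
    comm 0 4 (by norm_num) (by norm_num) (relTh_one _ (mem_th (by simp [pWords, gWords, wAE])))
  have cec : tg 4 * tg 2 = tg 2 * tg 4 :=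
    comm 2 4 (by norm_num) (by norm_num) (relTh_one _ (mem_th (by simp [pWords, gWords, wCE])))
  have cca : tg 2 * tg 0 = tg 0 * tg 2 := by
    have h : tw.eq [2, 0] [0, 2] = true := by decide +kernel
    have e := congrArg toP (eq_sound0 h)
    rw [toP_word (by simp), toP_word (by simp)] at e
    simpa using e
  have hseven := D.q_seven (a2 (g := 0) (by norm_num)) (a2 (g := 2) (by norm_num)) (a2 (g := 4) (by norm_num))
    cca cea cec
  rw [mul_assoc (tg 0) (tg 2) (tg 4), qace, qac, qae, qce, qc, base] at hseven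
  have hk : D.q (tg 0) * D.q (tg 0) = 1 := by
    refine D.sq (MonoidHom.mem_ker.2 ?_)
    obtain ⟨x, hx⟩ := e.surj (tg 0)
    rw [D.q_eq hx, map_mul, hx, a2 (by norm_num)]
  have h0 : D.q (tg 0) = 1 := by simpa [← mul_assoc, hk] using hseven
  intro g hg
  rw [D.sqOne_iff]
  interval_cases g
  exacts [h0, qb.trans h0, qc.trans h0, qd.trans (base.trans h0), base.trans h0]

theorem exists_pre_two (e : Ext τ 2) : ∃ L : ℕ → Δ, Pre τ L ∧ prodW L wZ2 = 1 := by
  have hs := sq_lifts e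
  obtain ⟨B0, hB0⟩ := e.surj (tg 1)
  obtain ⟨C0, hC0⟩ := e.surj (tg 2)
  obtain ⟨D0, hD0⟩ := e.surj (tg 3)
  obtain ⟨E0, hE0⟩ := e.surj (tg 4)
  obtain ⟨S0, hS0⟩ := e.surj (tg 5)
  obtain ⟨T0, hT0⟩ := e.surj (tg 7)
  obtain ⟨U0, hU0⟩ := e.surj (tg 9)
  have i6 : tg 6 = (tg 5)⁻¹ := eq_inv_of_mul_eq_one_right (tg_inv 5)
  have i8 : tg 8 = (tg 7)⁻¹ := eq_inv_of_mul_eq_one_right (tg_inv 7)
  have i10 : tg 10 = (tg 9)⁻¹ := eq_inv_of_mul_eq_one_right (tg_inv 9)
  have th : ∀ w, w ∈ pWords ++ rCen ++ [wUX 0, wUX 2, wUX 4, wUT, wUY, wZ1] → prodW tg w = 1 :=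
    fun w h => relTh_one w (mem_th h)
  have s0 : (tg 0)⁻¹ = tg 0 := inv_eq_of_mul_eq_one_right (tg_sq (by norm_num))
  have twice : ∀ {k : Δ}, τ k = 1 → k * k = 1 := fun {k} hk => by rw [← pow_two]; exact e.exp hk
  have cube : ∀ {x k : Δ}, τ k = 1 → (x * k) ^ 3 = x ^ 3 * k := fun {x k} hk => by
    rw [(e.commute_of_tau hk x).symm.mul_pow, pow_succ k 2, e.exp hk, one_mul]
  -- a
  set A := (C0 * D0) ^ 4 with hA
  have hAv : τ A = tg 0 := by
    have h := th wCD (by simp [pWords, gWords])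
    simp only [wCD, prodW_cons, prodW_nil, mul_one] at h
    rw [hA, map_pow, map_mul, hC0, hD0, ← s0, eq_comm, inv_eq_iff_mul_eq_one]
    have s2 : (tg 2)⁻¹ = tg 2 := inv_eq_of_mul_eq_one_right (tg_sq (by norm_num))
    have s3 : (tg 3)⁻¹ = tg 3 := inv_eq_of_mul_eq_one_right (tg_sq (by norm_num))
    have h' : tg 0 * (tg 3 * tg 2) ^ 4 = 1 := by
      rw [← h]; simp only [pow_succ, pow_zero, one_mul, mul_assoc]
    rw [show tg 2 * tg 3 = (tg 3 * tg 2)⁻¹ by rw [mul_inv_rev, s2, s3], inv_pow,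
      inv_eq_of_mul_eq_one_left h']
    exact tg_sq (by norm_num)
  -- b
  have hkB : τ ((A * B0) ^ 3) = 1 := by
    have h := th wAB (by simp [pWords, gWords])
    simp only [wAB, prodW_cons, prodW_nil, mul_one] at h
    simp only [map_pow, map_mul, hAv, hB0, pow_succ, pow_zero, one_mul, mul_assoc]
    exact h
  set B := B0 * (A * B0) ^ 3 with hB
  have hBv : τ B = tg 1 := by rw [hB, map_mul, hkB, mul_one, hB0]
  have hab : (A * B) ^ 3 = 1 := by
    rw [hB, ← mul_assoc, cube hkB]; exact twice hkB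
  -- c
  have hkC : τ ((B * C0) ^ 3) = 1 := by
    have h := th wBC (by simp [pWords, gWords])
    simp only [wBC, prodW_cons, prodW_nil, mul_one] at h
    simp only [map_pow, map_mul, hBv, hC0, pow_succ, pow_zero, one_mul, mul_assoc]
    exact h
  set C := C0 * (B * C0) ^ 3 with hC
  have hCv : τ C = tg 2 := by rw [hC, map_mul, hkC, mul_one, hC0]
  have hbc : (B * C) ^ 3 = 1 := by
    rw [hC, ← mul_assoc, cube hkC]; exact twice hkC
  -- s
  set z := T0⁻¹ * S0 * T0 * (S0 * S0)⁻¹ with hz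
  have hzk : τ z = 1 := by
    have h := th wTS (by simp [pWords])
    simp only [wTS, prodW_cons, prodW_nil, mul_one, i6, i8] at h
    rw [hz]; simp only [map_mul, map_inv, hT0, hS0, mul_inv_rev]
    simpa only [mul_assoc] using h
  set S := S0 * z with hS
  have hSv : τ S = tg 5 := by rw [hS, map_mul, hzk, mul_one, hS0]
  -- e
  set kE := E0 * (S⁻¹ * E0 * S) * ((S ^ 3)⁻¹ * E0 * S ^ 3) with hkE
  have hkEk : τ kE = 1 := by
    have h := th wES (by simp [pWords])
    simp only [wES, prodW_cons, prodW_nil, mul_one, i6] at h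
    rw [hkE]
    simp [map_mul, map_inv, map_pow, hE0, hSv, pow_succ, mul_assoc]
    exact h
  set E := E0 * kE with hE
  have hEv : τ E = tg 4 := by rw [hE, map_mul, hkEk, mul_one, hE0]
  have kc : ∀ y, Commute kE y := e.commute_of_tau hkEk
  have hes : E * (S⁻¹ * E * S) * ((S ^ 3)⁻¹ * E * S ^ 3) = 1 := by
    have cj : ∀ g : Δ, g⁻¹ * (E0 * kE) * g = g⁻¹ * E0 * g * kE := fun g => by
      rw [mul_assoc, mul_assoc E0, (kc g).eq]; group
    rw [hE, cj, cj, show E0 * kE * (S⁻¹ * E0 * S * kE) = E0 * (kE * (S⁻¹ * E0 * S)) * kE by group,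
      (kc (S⁻¹ * E0 * S)).eq, show E0 * (S⁻¹ * E0 * S * kE) * kE = E0 * (S⁻¹ * E0 * S) * (kE * kE) by group,
      twice hkEk, mul_one, ← mul_assoc, ← hkE]
    exact twice hkEk
  -- d
  have hkD : τ ((D0 * E) ^ 3) = 1 := by
    have h := th wDE (by simp [pWords, gWords])
    simp only [wDE, prodW_cons, prodW_nil, mul_one] at h
    simp only [map_pow, map_mul, hD0, hEv, pow_succ, pow_zero, one_mul, mul_assoc]
    exact h
  set D := D0 * (D0 * E) ^ 3 with hD
  have hDv : τ D = tg 3 := by rw [hD, map_mul, hkD, mul_one, hD0]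
  have hde : (D * E) ^ 3 = 1 := by
    rw [hD, show D0 * (D0 * E) ^ 3 * E = D0 * ((D0 * E) ^ 3 * E) by group,
      (e.commute_of_tau hkD E).eq, ← mul_assoc, cube hkD]
    exact twice hkD
  have hA' : A = (C * D) ^ 4 := by
    rw [hC, hD, hA, show C0 * (B * C0) ^ 3 * (D0 * (D0 * E) ^ 3) = C0 * ((B * C0) ^ 3 * D0) * (D0 * E) ^ 3 by
      group, (e.commute_of_tau hkC D0).eq,
      show C0 * (D0 * (B * C0) ^ 3) * (D0 * E) ^ 3 = C0 * D0 * ((B * C0) ^ 3 * (D0 * E) ^ 3) by group,
      (((e.commute_of_tau hkC _).mul_left (e.commute_of_tau hkD _))).symm.mul_pow,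
      show 4 = 2 * 2 from rfl, pow_mul ((B * C0) ^ 3 * (D0 * E) ^ 3) 2 2,
      e.exp (k := (B * C0) ^ 3 * (D0 * E) ^ 3) (by rw [map_mul, hkC, hkD, one_mul]), one_pow, mul_one]
  -- t
  set x := T0 ^ 3 with hx
  set y := U0⁻¹ * T0 * U0 * T0 with hy
  have hxk : τ x = 1 := by
    have h := th wT3 (by simp [pWords])
    simp only [wT3, prodW_cons, prodW_nil, mul_one] at h
    rw [hx, map_pow, hT0, pow_succ, pow_two, mul_assoc]; exact h
  have hyk : τ y = 1 := by
    have h := th wUT (by simp)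
    simp only [wUT, prodW_cons, prodW_nil, mul_one, i10] at h
    rw [hy]; simp only [map_mul, map_inv, hT0, hU0]
    simpa only [mul_assoc] using h
  have hwk : τ (x * y) = 1 := by rw [map_mul, hxk, hyk, one_mul]
  set T := T0 * (x * y) with hT
  have hTv : τ T = tg 7 := by rw [hT, map_mul, hwk, mul_one, hT0]
  -- u
  set kU := A * C * ((U0 * S) ^ 3)⁻¹ with hkU
  have hkUk : τ kU = 1 := by
    have h := th wZ2 (by simp [rCen])
    simp only [wZ2, prodW_cons, prodW_nil, mul_one, i6, i10] at h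
    rw [hkU]
    simp only [map_mul, map_inv, map_pow, hAv, hCv, hU0, hSv, pow_succ, pow_zero, one_mul, mul_inv_rev,
      mul_assoc]
    exact h
  set U := U0 * kU with hU
  have hUv : τ U = tg 9 := by rw [hU, map_mul, hkUk, mul_one, hU0]
  refine ⟨letters A B C D E S T U, ?_⟩
  set L := letters A B C D E S T U with hL
  have sq1 : ∀ {X : Δ} {g : ℕ}, g < 5 → τ X = tg g → X * X = 1 := fun hg h => hs _ hg _ h
  have l : Lifts τ L := by
    refine ⟨fun g => ?_, fun g => ?_⟩
    · by_cases hg : g < 11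
      · interval_cases g <;> simp only [hL, letters, List.getD_cons_zero, List.getD_cons_succ] <;>
          simp [hAv, hBv, hCv, hDv, hEv, hSv, hTv, hUv, i6, i8, i10]
      · rw [hL, letters, List.getD_eq_default _ _ (by simp; omega), map_one, tg, if_neg hg]
    · by_cases hg : g < 11
      · interval_cases g <;> simp [hL, letters, inv11, sq1 (g := 0) (by norm_num) hAv,
          sq1 (g := 1) (by norm_num) hBv, sq1 (g := 2) (by norm_num) hCv, sq1 (g := 3) (by norm_num) hDv,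
          sq1 (g := 4) (by norm_num) hEv]
      · have hi : inv11 g = g := by rw [inv11, List.getD_eq_default _ _ (by simp; omega)]
        rw [hi, hL, letters, List.getD_eq_default _ _ (by simp; omega), one_mul]
  have sq : ∀ g < 5, L g * L g = 1 := fun g hg => sq1 hg (l.val g)
  refine ⟨⟨l, sq, ?_, ?_, ?_, ?_, ?_, ?_, ?_, ?_⟩, ?_⟩
  · simp only [wCD, hL, letters, prodW_cons, prodW_nil, mul_one, List.getD_cons_zero, List.getD_cons_succ]
    have hi : (C * D)⁻¹ = D * C := by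
      rw [mul_inv_rev, inv_eq_of_mul_eq_one_right (sq1 (g := 3) (by norm_num) hDv),
        inv_eq_of_mul_eq_one_right (sq1 (g := 2) (by norm_num) hCv)]
    rw [show A * (D * (C * (D * (C * (D * (C * (D * C))))))) = A * (D * C) ^ 4 by
      simp only [pow_succ, pow_zero, one_mul, mul_assoc], ← hi, inv_pow, hA', mul_inv_cancel]
  · simpa [wAB, hL, letters, pow_succ, mul_assoc] using hab
  · simpa [wBC, hL, letters, pow_succ, mul_assoc] using hbc
  · simpa [wDE, hL, letters, pow_succ, mul_assoc] using hde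
  · simpa [wES, hL, letters, pow_succ, mul_assoc] using hes
  · simp only [wTS, hL, letters, prodW_cons, prodW_nil, mul_one, List.getD_cons_zero, List.getD_cons_succ]
    have hw : T⁻¹ * S0 * T = T0⁻¹ * S0 * T0 := by
      rw [hT, mul_inv_rev, show (x * y)⁻¹ * T0⁻¹ * S0 * (T0 * (x * y)) =
        (x * y)⁻¹ * (T0⁻¹ * S0 * T0) * (x * y) by group, mul_assoc,
        ← (e.commute_of_tau hwk _).eq, inv_mul_cancel_left]
    have hzc : ∀ y, Commute z y := e.commute_of_tau hzk
    have h1 : T⁻¹ * S * T = S * S := by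
      rw [hS, show T⁻¹ * (S0 * z) * T = T⁻¹ * S0 * (z * T) by group, (hzc T).eq, ← mul_assoc, hw,
        show S0 * z * (S0 * z) = S0 * (z * S0) * z by group, (hzc S0).eq,
        show S0 * (S0 * z) * z = S0 * S0 * (z * z) by group, twice hzk, mul_one]
      calc T0⁻¹ * S0 * T0 * z = z * (S0 * S0) * z := by rw [hz, inv_mul_cancel_right]
        _ = S0 * S0 * (z * z) := by rw [(hzc _).eq, mul_assoc]
        _ = S0 * S0 := by rw [twice hzk, mul_one]
    rw [show T⁻¹ * (S * (T * (S⁻¹ * S⁻¹))) = (T⁻¹ * S * T) * (S * S)⁻¹ by group, h1, mul_inv_cancel]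
  · simp only [wUT, wT3, hL, letters, prodW_cons, prodW_nil, mul_one, List.getD_cons_zero,
      List.getD_cons_succ]
    have hwc : ∀ v, Commute (x * y) v := e.commute_of_tau hwk
    have hcj : U⁻¹ * T * U = U0⁻¹ * T * U0 := by
      rw [hU, mul_inv_rev, show kU⁻¹ * U0⁻¹ * T * (U0 * kU) = kU⁻¹ * (U0⁻¹ * T * U0) * kU by group,
        mul_assoc, ← (e.commute_of_tau hkUk _).eq, inv_mul_cancel_left]
    have hL1 : U⁻¹ * T * U * T = y := by
      rw [hcj, hT, show U0⁻¹ * (T0 * (x * y)) * U0 = U0⁻¹ * T0 * ((x * y) * U0) by group, (hwc U0).eq,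
        show U0⁻¹ * T0 * (U0 * (x * y)) * (T0 * (x * y)) = U0⁻¹ * T0 * U0 * ((x * y) * T0) * (x * y) by group,
        (hwc T0).eq,
        show U0⁻¹ * T0 * U0 * (T0 * (x * y)) * (x * y) = U0⁻¹ * T0 * U0 * T0 * ((x * y) * (x * y)) by group,
        twice hwk, mul_one, ← hy]
    have hR : T ^ 3 = y := by
      rw [hT, cube hwk, ← hx, ← mul_assoc, twice hxk, one_mul]
    rw [show U⁻¹ * (T * (U * T)) = U⁻¹ * T * U * T by group, hL1, ← hR]
    simp only [pow_succ, pow_zero, one_mul, mul_assoc]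
  · rw [wU4, prodW_append]
    refine twice ?_
    rw [l.word]
    exact th wU2 (by simp [rCen])
  · simp only [wZ2, hL, letters, prodW_cons, prodW_nil, mul_one, List.getD_cons_zero, List.getD_cons_succ]
    have h3 : (U * S) ^ 3 = (U0 * S) ^ 3 * kU := by
      rw [hU, mul_assoc, (e.commute_of_tau hkUk S).eq, ← mul_assoc, cube hkUk]
    rw [show A * (C * (S⁻¹ * (U⁻¹ * (S⁻¹ * (U⁻¹ * (S⁻¹ * U⁻¹)))))) = A * C * ((U * S) ^ 3)⁻¹ by
      simp only [pow_succ, pow_zero, one_mul, mul_inv_rev, mul_assoc], h3, mul_inv_rev,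
      show A * C * (kU⁻¹ * ((U0 * S) ^ 3)⁻¹) = (A * C * kU⁻¹) * ((U0 * S) ^ 3)⁻¹ by group,
      ← (e.commute_of_tau hkUk (A * C)).inv_left.eq, mul_assoc, ← hkU, inv_mul_cancel]

end CfsgLib.ThMult
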