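import Cfsg.Agent.Lib.ThMult.Words
import Cfsg.Agent.Lib.ThMult.CheckW

/-!
The certificate that bounds the lifted centraliser.
-/

set_option autoImplicit false
set_option Elab.async false

namespace CfsgLib.ThMult

open CfsgLib.CosetEnum CfsgLib.ThPres

/-- the relators without b -/
def wKnown : List (List ℕ) := pWords ++ ([wUX 0, wUX 2, wUX 4, wUT] ++ rCen)

theorem liftW : liftOK certW [0, 2, 3, 4, 5, 6, 7, 8, 9, 10] wKnown [] = true := by decide +kernel

theorem subsW : certW.K = 10 ∧ certW.N = 120 ∧ certW.subs = [[0], [1], [2], [3], [4], [6]] := by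
  decide +kernel

end CfsgLib.ThMult
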