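import Cfsg.Agent.Lib.ThMult.Signs
import Cfsg.Agent.Lib.ThMult.UConj
import Cfsg.Agent.Lib.ThMult.WData
import Cfsg.Agent.Lib.Schur.SylowCriterion

/-!
No double cover: the centraliser of an involution lifts.
-/

set_option autoImplicit false
set_option linter.style.haveILetI false

namespace CfsgLib.ThMult

open Cfsg.Spor CfsgLib.CosetEnum CfsgLib.ThPres

attribute [local irreducible] certS certR certV certW relsTh pRels certL qElts

variable {Δ : Type} [Group Δ] {τ : Δ →* Th} {L : ℕ → Δ}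

theorem ue_two (p : Pre τ L) (e : Ext τ 2) : prodW L (wUX 4) = 1 := by
  set Y := prodW L [1, 0, 2, 1] with hY
  set P := (L 9)⁻¹ * Y * L 9 with hP
  have hYY : Y * Y = 1 := by
    rw [hY]; simp only [prodW_cons, prodW_nil, mul_one]
    rw [show L 1 * (L 0 * (L 2 * L 1)) * (L 1 * (L 0 * (L 2 * L 1))) =
      L 1 * (L 0 * L 2) * (L 1 * L 1) * (L 0 * L 2) * L 1 by group, p.sq 1 (by norm_num), mul_one,
      mul_assoc (L 1), p.ac_sq, mul_one, p.sq 1 (by norm_num)]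
  have hPP : P * P = 1 := by
    rw [hP, show (L 9)⁻¹ * Y * L 9 * ((L 9)⁻¹ * Y * L 9) = (L 9)⁻¹ * (Y * Y) * L 9 by group, hYY, mul_one,
      inv_mul_cancel]
  set k := P * Y * L 4 with hk
  have hkk : τ k = 1 := by
    have h : k = prodW L wUY := by
      rw [hk, hP, hY]
      simp [wUY, p.l9, mul_assoc, show ∀ x, L 0 * (L 2 * x) = L 2 * (L 0 * x) from fun x => by
        rw [← mul_assoc, p.comm_ac.eq, mul_assoc]]
    rw [h]; exact rel_tau p.toLifts (mem_th (by simp))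
  have hk2 : k * k = 1 := by rw [← pow_two]; exact e.exp hkk
  have hkc : ∀ y, Commute k y := e.commute_of_tau hkk
  have hE : L 4 = Y * P * k := by
    rw [hk, show Y * P * (P * Y * L 4) = Y * (P * P) * Y * L 4 by group, hPP, mul_one, hYY, one_mul]
  have hE' : P * Y * k = L 4 := by
    clear_value k Y P
    calc P * Y * k = ((Y * P * k))⁻¹ := by
          rw [mul_inv_rev, mul_inv_rev, inv_eq_of_mul_eq_one_right hk2, inv_eq_of_mul_eq_one_right hPP,
            inv_eq_of_mul_eq_one_right hYY, (hkc (P * Y)).eq]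
      _ = L 4 := by rw [← hE]; exact p.sq_inv (by norm_num)
  obtain ⟨k', -, hU, hkc'⟩ := e.exists_eq (x := L 9 * L 9) (y := L 0 * L 2) (by
    have h := relTh_one wU2 (mem_th (by simp [rCen]))
    simp only [wU2, prodW_cons, prodW_nil, mul_one] at h
    have s0 : (tg 0)⁻¹ = tg 0 := inv_eq_of_mul_eq_one_right (tg_sq (by norm_num))
    have s2 : (tg 2)⁻¹ = tg 2 := inv_eq_of_mul_eq_one_right (tg_sq (by norm_num))
    rw [← mul_assoc, mul_eq_one_iff_eq_inv, mul_inv_rev, s0, s2] at h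
    rw [map_mul, map_mul, p.toLifts.val, p.toLifts.val, p.toLifts.val, h])
  have hUU : (L 9)⁻¹ * P * L 9 = Y := by
    have h2 : prodW L ([2, 0] ++ [1, 0, 2, 1] ++ [0, 2]) = Y :=
      p_eq p e y_ac (by simp) (by simp)
    rw [prodW_append, prodW_append, ← hY] at h2
    simp only [prodW_cons, prodW_nil, mul_one] at h2
    rw [hP, show (L 9)⁻¹ * ((L 9)⁻¹ * Y * L 9) * L 9 = (L 9 * L 9)⁻¹ * Y * (L 9 * L 9) by group, hU,
      mul_inv_rev, show k'⁻¹ * (L 0 * L 2)⁻¹ * Y * (L 0 * L 2 * k') =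
        k'⁻¹ * ((L 0 * L 2)⁻¹ * Y * (L 0 * L 2)) * k' by group, mul_inv_rev,
      p.sq_inv (by norm_num), p.sq_inv (by norm_num), h2, mul_assoc, ← (hkc' Y).eq, inv_mul_cancel_left]
  have h9 : (L 9)⁻¹ * L 4 * L 9 = L 4 := by
    conv_lhs => rw [hE]
    rw [show (L 9)⁻¹ * (Y * P * k) * L 9 = ((L 9)⁻¹ * Y * L 9) * ((L 9)⁻¹ * P * L 9) * ((L 9)⁻¹ * (k * L 9)) by
      group, (hkc (L 9)).eq, inv_mul_cancel_left, hUU, ← hP, hE']
  simp only [wUX, prodW_cons, prodW_nil, mul_one, p.l9]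
  rw [show (L 9)⁻¹ * (L 4 * (L 9 * L 4)) = (L 9)⁻¹ * L 4 * L 9 * L 4 by group, h9, p.sq 4 (by norm_num)]

theorem uconj_prod : ∀ {J : List ℕ}, (∀ j ∈ J, j < 9) →
    (tg 9)⁻¹ * prodW tg (srcW J) * tg 9 = prodW tg (imgW J)
  | [], _ => by simp [srcW, imgW]
  | j :: J, h => by
    have ih := uconj_prod (J := J) fun c hc => h c (List.mem_cons_of_mem _ hc)
    have e1 := (uconj_gen (h j List.mem_cons_self)).2
    simp only [srcW, imgW, List.flatMap_cons, prodW_append] at ih ⊢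
    rw [show (tg 9)⁻¹ * (prodW tg (qGens.getD j []) * prodW tg (List.flatMap (fun j => qGens.getD j []) J)) *
        tg 9 = ((tg 9)⁻¹ * prodW tg (qGens.getD j []) * tg 9) *
          ((tg 9)⁻¹ * prodW tg (List.flatMap (fun j => qGens.getD j []) J) * tg 9) by group, e1, ih]
    rfl

theorem qc_two (p : Pre τ L) (e : Ext τ 2) : prodW L wQC = 1 := by
  have hok := phi_ok
  simp only [phiOK, Bool.and_eq_true, List.all_eq_true, Nat.blt_eq] at hok
  obtain ⟨⟨⟨⟨⟨⟨o1, o2⟩, o3⟩, o4⟩, o5⟩, o6⟩, hlt⟩ := hok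
  set J := fun i => phiJ.getD i [] with hJ
  have hJ9 : ∀ i < 5, (∀ j ∈ J i, j < 9) ∧ ∀ g ∈ imgW (J i) ++ srcW (J i), g < 9 := fun i hi => by
    have hl : i < phiJ.length := hi
    have h := hlt (J i) (by simp only [hJ, List.getD_eq_getElem _ _ hl, List.getElem_mem])
    exact h
  set σs := fun i => prodW L (srcW (J i)) with hs
  set τs := fun i => prodW L (imgW (J i)) with hi'
  have step : ∀ i < 5, ∃ k, τ k = 1 ∧ (L 9)⁻¹ * σs i * L 9 = τs i * k ∧ ∀ y, Commute k y := fun i hi => by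
    refine e.exists_eq ?_
    rw [map_mul, map_mul, map_inv, p.toLifts.val]
    simp only [hs, hi']
    rw [p.toLifts.word, p.toLifts.word]
    exact uconj_prod (hJ9 i hi).1
  obtain ⟨k0, -, h0, c0⟩ := step 0 (by norm_num)
  obtain ⟨k1, -, h1, c1⟩ := step 1 (by norm_num)
  obtain ⟨k2, t2, h2, c2⟩ := step 2 (by norm_num)
  obtain ⟨k3, t3, h3, c3⟩ := step 3 (by norm_num)
  obtain ⟨k4, t4, h4, c4⟩ := step 4 (by norm_num)
  have lti : ∀ i < 5, ∀ g ∈ imgW (J i), g < 9 := fun i hi g hg => (hJ9 i hi).2 g (List.mem_append_left _ hg)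
  have lts : ∀ i < 5, ∀ g ∈ srcW (J i), g < 9 := fun i hi g hg => (hJ9 i hi).2 g (List.mem_append_right _ hg)
  have lt2 : ∀ {u w v : List ℕ}, (∀ g ∈ u, g < 9) → (∀ g ∈ w, g < 9) → (∀ g ∈ v, g < 9) →
      ∀ g ∈ u ++ w ++ v, g < 9 := fun hu hw hv g hg => by
    rcases List.mem_append.1 hg with h | h
    · exact (List.mem_append.1 h).elim (hu g) (hw g)
    · exact hv g h
  have acc : ∀ i < 5, prodW L ([2, 0] ++ srcW (J i) ++ [0, 2]) = (L 0 * L 2)⁻¹ * σs i * (L 0 * L 2) := by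
    intro i _
    rw [prodW_append, prodW_append, mul_inv_rev, p.sq_inv (by norm_num), p.sq_inv (by norm_num)]
    simp [hs, mul_assoc]
  have sd : ∀ i < 5, prodW L ([6] ++ imgW (J i) ++ [5]) = (L 5)⁻¹ * τs i * L 5 := fun i _ => by
    rw [prodW_append, prodW_append]
    simp [hi', p.l5]
  -- the two steps with u
  have r1 : k0 * k1 = 1 := by
    obtain ⟨k', -, hU, hkc'⟩ := e.exists_eq (x := L 9 * L 9) (y := L 0 * L 2) (by
      have h := relTh_one wU2 (mem_th (by simp [rCen]))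
      simp only [wU2, prodW_cons, prodW_nil, mul_one] at h
      have s0 : (tg 0)⁻¹ = tg 0 := inv_eq_of_mul_eq_one_right (tg_sq (by norm_num))
      have s2 : (tg 2)⁻¹ = tg 2 := inv_eq_of_mul_eq_one_right (tg_sq (by norm_num))
      rw [← mul_assoc, mul_eq_one_iff_eq_inv, mul_inv_rev, s0, s2] at h
      rw [map_mul, map_mul, p.toLifts.val, p.toLifts.val, p.toLifts.val, h])
    have e01 : τs 0 = σs 1 := p_eq p e o1 (lti 0 (by norm_num)) (lts 1 (by norm_num))
    have e12 : τs 1 = (L 0 * L 2)⁻¹ * σs 0 * (L 0 * L 2) := by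
      rw [← acc 0 (by norm_num)]
      exact p_eq p e o2 (lti 1 (by norm_num)) (lt2 (by simp) (lts 0 (by norm_num)) (by simp))
    have hA : (L 9 * L 9)⁻¹ * σs 0 * (L 9 * L 9) = τs 1 := by
      rw [hU, mul_inv_rev, show k'⁻¹ * (L 0 * L 2)⁻¹ * σs 0 * (L 0 * L 2 * k') =
        k'⁻¹ * ((L 0 * L 2)⁻¹ * σs 0 * (L 0 * L 2)) * k' by group, ← e12, mul_assoc, ← (hkc' _).eq,
        inv_mul_cancel_left]
    have hB : (L 9 * L 9)⁻¹ * σs 0 * (L 9 * L 9) = τs 1 * (k0 * k1) := by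
      rw [show (L 9 * L 9)⁻¹ * σs 0 * (L 9 * L 9) = (L 9)⁻¹ * ((L 9)⁻¹ * σs 0 * L 9) * L 9 by group, h0, e01,
        show (L 9)⁻¹ * (σs 1 * k0) * L 9 = (L 9)⁻¹ * σs 1 * (k0 * L 9) by group, (c0 _).eq, ← mul_assoc, h1,
        mul_assoc, (c1 k0).eq]
    exact left_eq_mul.mp (hA.symm.trans hB)
  -- the three steps with us
  set V := L 9 * L 5 with hV
  have hs1 : ∀ {i : ℕ} {k : Δ}, i < 5 → (L 9)⁻¹ * σs i * L 9 = τs i * k → (∀ y, Commute k y) →
      V⁻¹ * σs i * V = prodW L ([6] ++ imgW (J i) ++ [5]) * k := fun {i k} hi h hc => by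
    rw [sd i hi, hV, mul_inv_rev, show (L 5)⁻¹ * (L 9)⁻¹ * σs i * (L 9 * L 5) =
      (L 5)⁻¹ * ((L 9)⁻¹ * σs i * L 9) * L 5 by group, h,
      show (L 5)⁻¹ * (τs i * k) * L 5 = (L 5)⁻¹ * τs i * (k * L 5) by group, (hc _).eq, ← mul_assoc]
  have r2 : k2 * (k3 * k4) = 1 := by
    obtain ⟨k', -, hU, hkc'⟩ := e.exists_eq (x := V ^ 3) (y := L 0 * L 2) (by
      have hw := relTh_one wZ2 (mem_th (by simp [rCen]))
      simp only [wZ2, prodW_cons, prodW_nil, mul_one] at hw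
      have h5 : tg 6 = (tg 5)⁻¹ := eq_inv_of_mul_eq_one_right (tg_inv 5)
      have h10 : tg 10 = (tg 9)⁻¹ := eq_inv_of_mul_eq_one_right (tg_inv 9)
      rw [h5, h10] at hw
      simp only [hV, map_pow, map_mul, p.toLifts.val]
      refine (mul_inv_eq_one.mp (Eq.trans ?_ hw)).symm
      simp only [pow_succ, pow_zero, one_mul, mul_inv_rev, mul_assoc])
    have e2 : prodW L ([6] ++ imgW (J 2) ++ [5]) = σs 3 :=
      p_eq p e o3 (lt2 (by simp) (lti 2 (by norm_num)) (by simp)) (lts 3 (by norm_num))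
    have e3 : prodW L ([6] ++ imgW (J 3) ++ [5]) = σs 4 :=
      p_eq p e o4 (lt2 (by simp) (lti 3 (by norm_num)) (by simp)) (lts 4 (by norm_num))
    have e4 : prodW L ([6] ++ imgW (J 4) ++ [5]) = (L 0 * L 2)⁻¹ * σs 2 * (L 0 * L 2) := by
      rw [← acc 2 (by norm_num)]
      exact p_eq p e o5 (lt2 (by simp) (lti 4 (by norm_num)) (by simp))
        (lt2 (by simp) (lts 2 (by norm_num)) (by simp))
    have a2 := hs1 (by norm_num) h2 c2
    have a3 := hs1 (by norm_num) h3 c3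
    have a4 := hs1 (by norm_num) h4 c4
    rw [e2] at a2; rw [e3] at a3; rw [e4] at a4
    clear_value V
    have hA : (V ^ 3)⁻¹ * σs 2 * V ^ 3 = (L 0 * L 2)⁻¹ * σs 2 * (L 0 * L 2) := by
      rw [hU, mul_inv_rev, show k'⁻¹ * (L 0 * L 2)⁻¹ * σs 2 * (L 0 * L 2 * k') =
        k'⁻¹ * ((L 0 * L 2)⁻¹ * σs 2 * (L 0 * L 2)) * k' by group, mul_assoc k'⁻¹, ← (hkc' _).eq,
        inv_mul_cancel_left]
    have hB : (V ^ 3)⁻¹ * σs 2 * V ^ 3 = (L 0 * L 2)⁻¹ * σs 2 * (L 0 * L 2) * (k4 * (k3 * k2)) := by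
      rw [show (V ^ 3)⁻¹ * σs 2 * V ^ 3 = V⁻¹ * (V⁻¹ * (V⁻¹ * σs 2 * V) * V) * V by
          rw [show V ^ 3 = V * V * V by rw [pow_succ, pow_two], mul_inv_rev, mul_inv_rev]
          simp only [mul_assoc],
        a2, show V⁻¹ * (σs 3 * k2) * V = V⁻¹ * σs 3 * (k2 * V) by group, (c2 _).eq, ← mul_assoc (V⁻¹ * σs 3), a3,
        show V⁻¹ * (σs 4 * k3 * k2) * V = V⁻¹ * σs 4 * ((k3 * k2) * V) by group,
        ((c3 _).mul_left (c2 _)).eq, ← mul_assoc (V⁻¹ * σs 4), a4, mul_assoc]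
    have h := left_eq_mul.mp (hA.symm.trans hB)
    rw [(c2 (k3 * k4)).eq, mul_assoc, ← mul_assoc k3, ← (c4 k3).eq, mul_assoc]
    exact h
  -- the product
  set X := σs 0 * (σs 1 * (σs 2 * (σs 3 * σs 4))) with hX
  set Q := τs 0 * (τs 1 * (τs 2 * (τs 3 * τs 4))) with hQ
  have hQr : Q ∈ (sig p e).range := by
    have hm : ∀ i < 5, τs i ∈ (sig p e).range := fun i hi => ⟨_, sig_word p e (lti i hi)⟩
    exact mul_mem (hm 0 (by norm_num)) (mul_mem (hm 1 (by norm_num)) (mul_mem (hm 2 (by norm_num))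
      (mul_mem (hm 3 (by norm_num)) (hm 4 (by norm_num)))))
  have hXU : (L 9)⁻¹ * X * L 9 = Q := by
    rw [hX, show (L 9)⁻¹ * (σs 0 * (σs 1 * (σs 2 * (σs 3 * σs 4)))) * L 9 =
      ((L 9)⁻¹ * σs 0 * L 9) * (((L 9)⁻¹ * σs 1 * L 9) * (((L 9)⁻¹ * σs 2 * L 9) *
        (((L 9)⁻¹ * σs 3 * L 9) * ((L 9)⁻¹ * σs 4 * L 9)))) by group, h0, h1, h2, h3, h4, hQ]
    calc τs 0 * k0 * (τs 1 * k1 * (τs 2 * k2 * (τs 3 * k3 * (τs 4 * k4))))
        = τs 0 * (τs 1 * (τs 2 * (τs 3 * τs 4))) * ((k0 * k1) * (k2 * (k3 * k4))) := by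
          simp only [mul_assoc]
          simp only [(c0 _).eq, mul_assoc]
          simp only [(c1 _).eq, mul_assoc]
          simp only [(c2 _).eq, mul_assoc]
          simp only [(c3 _).eq, mul_assoc]
      _ = _ := by rw [r1, r2, one_mul, mul_one]
  have hX2 : X = L 3 * (L 2 * L 3) * L 0 := by
    have h : prodW L (srcW (J 0) ++ (srcW (J 1) ++ (srcW (J 2) ++ (srcW (J 3) ++ srcW (J 4))))) =
        prodW L ([3, 2, 3] ++ [0]) := p_eq p e o6
      (fun g hg => by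
        simp only [List.mem_append] at hg
        rcases hg with h | h | h | h | h
        exacts [lts 0 (by norm_num) g h, lts 1 (by norm_num) g h, lts 2 (by norm_num) g h,
          lts 3 (by norm_num) g h, lts 4 (by norm_num) g h]) (by simp)
    simp only [prodW_append] at h
    simpa [hX, hs, mul_assoc] using h
  have hUA : Commute (L 9) (L 0) := p.fixed_eq (j := 9) (by norm_num) (p.ux e (Or.inl rfl))
  have hmem : (L 9)⁻¹ * (L 3 * (L 2 * L 3)) * L 9 ∈ (sig p e).range := by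
    have hA0 : (L 9)⁻¹ * (L 3 * (L 2 * L 3)) * L 9 = Q * (L 0)⁻¹ := by
      rw [← hXU, hX2, show (L 9)⁻¹ * (L 3 * (L 2 * L 3) * L 0) * L 9 * (L 0)⁻¹ =
        (L 9)⁻¹ * (L 3 * (L 2 * L 3)) * (L 0 * L 9) * (L 0)⁻¹ by group, ← hUA.eq]
      group
    rw [hA0]
    exact mul_mem hQr (inv_mem ⟨pGen 0, sig_gen p e (by norm_num)⟩)
  refine range_trivial p e ?_ (by rw [p.toLifts.word]; exact qc_tau)
  have hlt2 : (wQC.drop 5).all (fun g => Nat.blt g 9) = true := by decide +kernel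
  simp only [List.all_eq_true, Nat.blt_eq] at hlt2
  rw [show wQC = [10, 3, 2, 3, 9] ++ wQC.drop 5 from rfl, prodW_append]
  refine mul_mem ?_ ⟨_, sig_word p e hlt2⟩
  have : prodW L [10, 3, 2, 3, 9] = (L 9)⁻¹ * (L 3 * (L 2 * L 3)) * L 9 := by simp [p.l9, mul_assoc]
  rw [this]
  exact hmem

theorem no_two [Finite Δ] (e : Ext τ 2) (hker : τ.ker ≤ Subgroup.center Δ)
    (hcomm : τ.ker ≤ commutator Δ) {z : Δ} (hz : τ z = 1) : z = 1 := by
  haveI := finite_PT
  haveI := finite_Th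
  obtain ⟨L, p, hz2⟩ := exists_pre_two e
  have m : Mid τ L := ⟨p, ue_two p e, qc_two p e⟩
  obtain ⟨hA, hG6, hZ3, hZ4, hU2, -⟩ := after_R m e
  rw [hz2, mul_one, mul_one] at hU2
  set K : Subgroup PT := Subgroup.closure {x | ∃ g ∈ paLet, pGen g = x} with hK
  set H : Subgroup Δ := K.map (sig p e) with hH
  have hKle : K ≤ Subgroup.centralizer ({pGen 0} : Set PT) := by
    rw [hK, Subgroup.closure_le]
    rintro _ ⟨g, hg, rfl⟩
    rw [SetLike.mem_coe, toP_cent, toP_gen (by simp [paLet] at hg; omega)]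
    exact centC_le (tg_mem_centC (by simp [paLet] at hg; simp [cLet]; omega))
  have hHcard : Nat.card H ≤ 774144 := by
    rw [hH]
    refine (Nat.card_le_card_of_surjective _ ((sig p e).subgroupMap_surjective K)).trans ?_
    exact (Subgroup.card_le_of_le hKle).trans card_centraliser.le
  have mw : Model certW H (certGen certW [0, 2, 3, 4, 5, 6, 7, 8, 9, 10] L) := by
    refine liftModel e m.toLifts liftW (fun w hw => ?_) (by simp) fun w hw => ?_
    · rcases List.mem_append.1 hw with hw | hw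
      · exact pWords_one p e w hw
      simp only [rCen, List.cons_append, List.nil_append, List.mem_cons, List.not_mem_nil, or_false] at hw
      rcases hw with rfl | rfl | rfl | rfl | rfl | rfl | rfl | rfl | rfl | rfl
      exacts [p.ux e (Or.inl rfl), p.ux e (Or.inr rfl), m.ue, rKnown_one m e wUT (by simp [rKnown]),
        hU2, hA, hG6, hz2, hZ3, hZ4]
    · rw [subsW.2.2] at hw
      simp only [List.mem_cons, List.not_mem_nil, or_false] at hw
      rcases hw with rfl | rfl | rfl | rfl | rfl | rfl <;>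
        rw [prodW_cons, prodW_nil, mul_one, certGen, if_pos (by rw [subsW.1]; norm_num)] <;>
        exact ⟨pGen _, Subgroup.subset_closure ⟨_, by decide, rfl⟩, sig_gen p e (by decide)⟩
  obtain ⟨hWfin, hWcard⟩ := finite_card_le certW_complete mw 774144 hHcard
  set W := Subgroup.closure {y | ∃ g < certW.K, certGen certW [0, 2, 3, 4, 5, 6, 7, 8, 9, 10] L g = y}
    with hW
  have hmap : W.map τ = centA := by
    rw [hW, MonoidHom.map_closure, centA_eq, centC]
    congr 1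
    ext x
    constructor
    · rintro ⟨_, ⟨g, hg, rfl⟩, rfl⟩
      rw [subsW.1] at hg
      refine ⟨[0, 2, 3, 4, 5, 6, 7, 8, 9, 10].getD g 11, ?_, ?_⟩
      · interval_cases g <;> simp [cLet]
      · rw [certGen, if_pos (by rw [subsW.1]; exact hg), m.toLifts.val]
    · rintro ⟨g, hg, rfl⟩
      have hex : ∀ g ∈ cLet, ∃ k, k < 10 ∧ [0, 2, 3, 4, 5, 6, 7, 8, 9, 10].getD k 11 = g := by decide
      obtain ⟨k, hk, hkg⟩ := hex g hg
      refine ⟨_, ⟨k, by rw [subsW.1]; exact hk, rfl⟩, ?_⟩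
      rw [certGen, if_pos (by rw [subsW.1]; exact hk), m.toLifts.val, hkg]
  have hinter : ∀ w ∈ W, τ w = 1 → w = 1 := by
    haveI := hWfin
    let f : W → W.map τ := fun w => ⟨τ w, w, w.2, rfl⟩
    have hs : Function.Surjective f := by
      rintro ⟨_, w, hw, rfl⟩
      exact ⟨⟨w, hw⟩, rfl⟩
    have hc : Nat.card W ≤ Nat.card (W.map τ) := by
      rw [hmap, card_centA]
      refine hWcard.trans ?_
      rw [subsW.2.1]
    have hb := hs.bijective_of_nat_card_le hc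
    intro w hw h
    exact congrArg Subtype.val (hb.1 (a₁ := ⟨w, hw⟩) (a₂ := 1) (Subtype.ext (h.trans (map_one τ).symm)))
  have hidx : ¬ 2 ∣ centA.index := by
    have h := centA.card_mul_index
    rw [card_centA, card_Th] at h
    rintro ⟨n, hn⟩
    rw [hn] at h
    omega
  have hmem := CfsgLib.Schur.mem_commutator_preimage (a := 1) e.surj Nat.prime_two
    (MonoidHom.mem_ker.2 hz) (hker hz) (hcomm hz) (by rw [pow_one]; exact e.exp hz) centA hidx
  have hle : ⁅centA.comap τ, centA.comap τ⁆ ≤ W := by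
    rw [Subgroup.commutator_le]
    intro x hx y hy
    rw [Subgroup.mem_comap, ← hmap] at hx hy
    obtain ⟨a, ha, hax⟩ := hx
    obtain ⟨b, hb, hby⟩ := hy
    rw [CfsgLib.Schur.commutatorElement_congr τ hker hax.symm hby.symm, commutatorElement_def]
    exact mul_mem (mul_mem (mul_mem ha hb) (inv_mem ha)) (inv_mem hb)
  exact hinter z (hle hmem) hz

end CfsgLib.ThMult
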