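import Cfsg.Agent.Lib.ThMult.Ext
import Cfsg.Agent.Lib.ThMult.CheckS
import Cfsg.Agent.Lib.ThMult.CheckR
import Cfsg.Agent.Lib.ThMult.CheckV
import Cfsg.Agent.Lib.ThPres.PGroup

/-!
The relators as words, and kernel checks of what the certificates use.
-/

set_option autoImplicit false
set_option Elab.async false

namespace CfsgLib.ThMult

open Cfsg.Spor CfsgLib.CosetEnum CfsgLib.ThPres

def wAB : List ℕ := [0, 1, 0, 1, 0, 1]
def wAE : List ℕ := [0, 4, 0, 4]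
def wBC : List ℕ := [1, 2, 1, 2, 1, 2]
def wBD : List ℕ := [1, 3, 1, 3]
def wBE : List ℕ := [1, 4, 1, 4]
def wCD : List ℕ := [0, 3, 2, 3, 2, 3, 2, 3, 2]
def wCE : List ℕ := [2, 4, 2, 4]
def wDE : List ℕ := [3, 4, 3, 4, 3, 4]
def w8 : List ℕ := (List.replicate 8 [1, 2, 3, 4]).flatten
def wS7 : List ℕ := [5, 5, 5, 5, 5, 5, 5]
def wSX (g : ℕ) : List ℕ := [6, g, 5, g]
def wSD : List ℕ := [5, 3, 5, 3]
def wES : List ℕ := [4, 6, 4, 6, 6, 4, 5, 5, 5]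
def wT3 : List ℕ := [7, 7, 7]
def wTX (g : ℕ) : List ℕ := [8, g, 7, g]
def wTS : List ℕ := [8, 5, 7, 6, 6]
def wU2 : List ℕ := [9, 9, 2, 0]
def wU4 : List ℕ := wU2 ++ wU2
def wUX (g : ℕ) : List ℕ := [10, g, 9, g]
def wZA : List ℕ := [3, 4, 10, 3, 9, 3, 4, 10, 3, 9]
def wUY : List ℕ := [10, 1, 2, 0, 1, 9, 1, 0, 2, 1, 4]
def wZ1 : List ℕ :=
  [3, 10, 3, 1, 2, 0, 1, 3, 9, 3, 1, 0, 2, 1, 2, 4, 3, 10, 3, 1, 2, 0, 1, 4, 10]
def wUT : List ℕ := [10, 7, 9, 7]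
def wG6 : List ℕ := [4, 6, 6, 10, 5, 5, 4, 6, 6, 9, 5, 5]
def wZ2 : List ℕ := [0, 2, 6, 10, 6, 10, 6, 10]
def wZ3 : List ℕ := [0, 2, 6, 10, 5, 9, 6, 10, 5, 9, 6, 10, 5, 9, 6, 10, 5, 9]
def wZ4 : List ℕ :=
  [3, 6, 6, 9, 5, 5, 3, 6, 6, 9, 5, 5, 3, 6, 6, 9, 5, 5, 3, 6, 6, 9, 4, 3, 2, 3, 4, 5, 5, 5, 4, 3, 2,
    3, 4, 6, 3, 2, 3, 2, 0]
def wQC : List ℕ :=
  [10, 3, 2, 3, 9, 7, 6, 4, 3, 2, 3, 4, 5, 8, 6, 6, 4, 3, 2, 3, 4, 5, 4, 3, 2, 3, 4, 5, 4, 3, 2, 3, 4,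
    3, 2, 3, 0]

/-- the relators of the subgroup of a, b, c, d, e -/
def gWords : List (List ℕ) := [wAB, wAE, wBC, wBD, wBE, wCD, wCE, wDE, w8]

/-- the relators without u -/
def pWords : List (List ℕ) :=
  gWords ++ [wS7, wSX 0, wSX 1, wSX 2, wSD, wES, wT3, wTX 0, wTX 1, wTX 2, wTX 3, wTX 4, wTS]

/-- the relators known before the centraliser's certificate -/
def rKnown : List (List ℕ) := pWords ++ [wUX 0, wUX 2, wUX 4, wUT, wU4, wQC]

/-- the relators that certificate makes central -/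
def rCen : List (List ℕ) := [wU2, wZA, wG6, wZ2, wZ3, wZ4]

/-- the relators known before the last certificate -/
def vKnown : List (List ℕ) := pWords ++ [wUX 0, wUX 2, wUX 4, wU2, wZA, wUY]

theorem rels_th : (pWords ++ rCen ++ [wUX 0, wUX 2, wUX 4, wUT, wUY, wZ1]).all relsTh.contains = true := by
  decide +kernel

theorem th_rels : relsTh.all (fun r => ([] :: pWords ++ rCen ++
    [wUX 0, wUX 2, wUX 4, wUT, wUY, wZ1]).contains r) = true := by decide +kernel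

theorem p_rels : pRels.all (fun r => pWords.contains r || (List.range 9).any fun g => r == [g, inv11 g]) = true := by
  decide +kernel

theorem liftS : liftOK certS [0, 1, 2, 3, 4] [wAB, wBC, wCD, wDE] [wAE, wBD, wBE, wCE, w8] = true := by
  decide +kernel

theorem liftR : liftOK certR [0, 2, 3, 4, 5, 6, 7, 8, 9, 10] rKnown rCen = true := by decide +kernel

theorem liftV : liftOK certV [0, 1, 2, 3, 4, 9, 10] vKnown [wZ1] = true := by decide +kernel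

theorem subsS : certS.K = 5 ∧ certS.subs = [[0], [1]] ∧ certR.K = 10 ∧
    certR.subs = [[0], [1], [2], [3], [4], [6]] ∧ certR.N = 480 ∧
    certV.K = 7 ∧ certV.subs = [[0], [1], [2], [3], [4]] := by decide +kernel

theorem backS : [wAE, wBD, wBE, wCE, w8].all (backOK certS [0, 1, 2, 3, 4]) = true := by decide +kernel

theorem backR : [wZA, wG6, wZ3, wZ4, wU2 ++ (wZ2 ++ wZ2), (wZ2 ++ wZ2) ++ (wZ2 ++ wZ2)].all
    (backOK certR [0, 2, 3, 4, 5, 6, 7, 8, 9, 10]) = true := by decide +kernel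

theorem backV : backOK certV [0, 1, 2, 3, 4, 9, 10] wZ1 = true := by decide +kernel

end CfsgLib.ThMult
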